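import Cfsg.Agent.Spor.Suz1782.R.D0

set_option autoImplicit false
set_option maxRecDepth 100000000
set_option Elab.async false

namespace Cfsg.Agent.Spor.Suz1782.R

theorem ff3 : U.fixFrom 11 1782 1 = true := by decide +kernel

theorem ff4 : U.fixFrom 11 1782 3 = true := by decide +kernel

theorem ff5 : U.fixFrom 11 1782 5 = true := by decide +kernel

theorem ff6 : U.fixFrom 11 1782 7 = true := by decide +kernel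

theorem ff7 : U.fixFrom 11 1782 9 = true := by decide +kernel

theorem ff8 : U.fixFrom 11 1782 11 = true := by decide +kernel

theorem ff9 : U.fixFrom 11 1782 13 = true := by decide +kernel

theorem gr10 : sub (ones 1782) (U.growI W1 [6, 1, 0, 1, 2, 3, 4, 5, 2, 1, 0, 1, 2, 3, 5, 6, 2, 1, 0, 1, 2, 3, 4, 5, 6, 5, 2, 1, 0, 5] (Nat.shiftLeft 1 0)) = true := by decide +kernel

theorem gr13 : sub M12 (U.growI W2 [5, 1, 0, 1, 2, 3, 4, 5, 2, 1, 0, 1, 2, 3, 5, 2, 1, 0, 1, 2, 3, 4, 5, 2, 1] (Nat.shiftLeft 1 995)) = true := by decide +kernel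

theorem cl15 : band (U.closedW W2 M12) (sub (Nat.shiftLeft 1 995) M12) = true := by decide +kernel

theorem sz16 : sizeOk 11 M12 416 = true := by decide +kernel

theorem gr19 : sub M18 (U.growI W2 [1, 2, 3, 4, 5, 2, 1, 0, 1, 2, 3, 4, 5, 2, 1, 0, 1, 2, 3, 4, 5, 2, 1, 0, 1, 2] (Nat.shiftLeft 1 1)) = true := by decide +kernel

theorem cl21 : band (U.closedW W2 M18) (sub (Nat.shiftLeft 1 1) M18) = true := by decide +kernel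

theorem sz22 : sizeOk 11 M18 1365 = true := by decide +kernel

theorem le24 : band (lall (lall (memL HZ)) W25) (U.closedW W25 (Nat.shiftLeft 1 995)) = true := by decide +kernel

theorem le26 : band (lall (lall (memL HZ)) W27) (U.closedW W27 (Nat.shiftLeft 1 1)) = true := by decide +kernel

theorem sz29 : sizeOk 11 (Nat.shiftLeft 1 0) 1 = true := by decide +kernel

theorem sz31 : sizeOk 11 (Nat.shiftLeft 1 995) 1 = true := by decide +kernel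

theorem gr33 : sub M32 (U.growI W25 [0, 1, 2, 3, 4, 3, 2, 1, 0, 1, 3, 4, 2, 1] (Nat.shiftLeft 1 47)) = true := by decide +kernel

theorem sz35 : sizeOk 11 M32 100 = true := by decide +kernel

theorem gr37 : sub M36 (U.growI W25 [1, 2, 3, 4, 2, 1, 0, 1, 2, 3, 4, 2, 1, 0, 1, 2, 3, 4, 2, 1, 0] (Nat.shiftLeft 1 1)) = true := by decide +kernel

theorem sz39 : sizeOk 11 M36 315 = true := by decide +kernel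

theorem gr41 : sub M40 (U.growI W25 [0, 1, 2, 3, 4, 3, 2, 1, 0, 1, 2, 3, 4, 2, 1, 0, 1, 2] (Nat.shiftLeft 1 81)) = true := by decide +kernel

theorem sz43 : sizeOk 11 M40 315 = true := by decide +kernel

theorem gr45 : sub M44 (U.growI W25 [0, 1, 2, 3, 4, 2, 1, 0, 1, 2, 3, 4, 2, 1, 0, 1, 2, 3, 4, 2, 1, 0, 1, 3, 4] (Nat.shiftLeft 1 21)) = true := by decide +kernel

theorem sz47 : sizeOk 11 M44 1050 = true := by decide +kernel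

theorem sz49 : sizeOk 11 (Nat.shiftLeft 1 0) 1 = true := by decide +kernel

theorem sz51 : sizeOk 11 (Nat.shiftLeft 1 1) 1 = true := by decide +kernel

theorem gr53 : sub M52 (U.growI W27 [2, 3, 5, 6, 6, 5, 3, 1] (Nat.shiftLeft 1 16)) = true := by decide +kernel

theorem sz55 : sizeOk 11 M52 20 = true := by decide +kernel

theorem gr57 : sub M56 (U.growI W27 [0, 1, 2, 3, 5, 6, 6, 5, 3, 2, 1, 3, 5] (Nat.shiftLeft 1 130)) = true := by decide +kernel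

theorem sz59 : sizeOk 11 M56 96 = true := by decide +kernel

theorem gr61 : sub M60 (U.growI W27 [0, 2, 3, 4, 5, 6, 6, 5, 3, 2, 1, 2, 3, 5] (Nat.shiftLeft 1 25)) = true := by decide +kernel

theorem sz63 : sizeOk 11 M60 320 = true := by decide +kernel

theorem gr65 : sub M64 (U.growI W27 [0, 2, 3, 4, 5, 6, 6, 5, 3, 2, 1, 2, 3, 5] (Nat.shiftLeft 1 47)) = true := by decide +kernel

theorem sz67 : sizeOk 11 M64 320 = true := by decide +kernel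

theorem gr69 : sub M68 (U.growI W27 [0, 1, 2, 3, 4, 5, 6, 6, 5, 3, 2, 1, 2, 3, 5, 6, 6, 5] (Nat.shiftLeft 1 2)) = true := by decide +kernel

theorem sz71 : sizeOk 11 M68 1024 = true := by decide +kernel

theorem sd72 : U.sends [3, 1, 5, 3, 1, 3, 7, 5, 3, 11, 7, 5, 3, 3, 1, 5, 3, 1, 3, 7, 5, 3, 11, 7, 5, 3, 3, 1, 11, 3, 1, 3] 1 1 = true := by decide +kernel

theorem sd73 : U.sends [3, 1, 5, 3, 1, 3, 7, 5, 3, 11, 7, 5, 3, 3, 1, 5, 3, 1, 3, 7, 5, 3, 11, 7, 5, 3, 3, 1, 11, 3, 1, 3] 995 130 = true := by decide +kernel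

theorem sd74 : U.sends [11, 3, 5, 1, 3, 1, 3, 1, 5, 3, 1, 3, 7, 5, 3, 11, 7, 5, 3] 21 1 = true := by decide +kernel

theorem sd75 : U.sends [11, 3, 5, 1, 3, 1, 3, 1, 5, 3, 1, 3, 7, 5, 3, 11, 7, 5, 3] 995 47 = true := by decide +kernel

theorem rw77 : U.rowOk GZ [13, 3, 5, 7, 5, 3, 13, 11, 3, 5, 7, 5, 3, 11] M12 995 M76 = true := by decide +kernel

theorem rw79 : U.rowOk GZ [13] M12 1 M78 = true := by decide +kernel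

theorem pt80 : Nat.beq (patM (ones 1782) [] []) (ones 1782) = true := by decide +kernel

theorem sz81 : band (Nat.testBit (ones 1782) 0) (sizeOk 11 (ones 1782) 1782) = true := by decide +kernel

theorem pt85 : Nat.beq (patM (ones 1782) ML82 [2]) M84 = true := by decide +kernel

theorem sz86 : band (Nat.testBit M84 995) (sizeOk 11 M84 416) = true := by decide +kernel

theorem pt90 : Nat.beq (patM (ones 1782) ML87 [2, 6]) M89 = true := by decide +kernel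

theorem sz91 : band (Nat.testBit M89 47) (sizeOk 11 M89 100) = true := by decide +kernel

theorem rw93 : U.rowOk GZ [13, 3, 5, 7, 5, 3, 13] M12 47 M92 = true := by decide +kernel

theorem pt97 : Nat.beq (patM (ones 1782) ML94 [2, 6, 10]) M96 = true := by decide +kernel

theorem sz98 : band (Nat.testBit M96 79) (sizeOk 11 M96 36) = true := by decide +kernel

theorem rw100 : U.rowOk GZ [13, 3, 5, 7, 5, 3, 9, 13] M12 79 M99 = true := by decide +kernel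

theorem pt104 : Nat.beq (patM (ones 1782) ML101 [2, 6, 10, 14]) M103 = true := by decide +kernel

theorem sz105 : band (Nat.testBit M103 125) (sizeOk 11 M103 14) = true := by decide +kernel

theorem rw107 : U.rowOk GZ [13, 3, 5, 7, 5, 3, 9, 7, 13] M12 125 M106 = true := by decide +kernel

theorem pt111 : Nat.beq (patM (ones 1782) ML108 [2, 6, 10, 14, 18]) M110 = true := by decide +kernel

theorem sz112 : band (Nat.testBit M110 271) (sizeOk 11 M110 4) = true := by decide +kernel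

theorem rw114 : U.rowOk GZ [13, 3, 1, 5, 7, 5, 3, 9, 7, 5, 13] M12 271 M113 = true := by decide +kernel

theorem pt118 : Nat.beq (patM (ones 1782) ML115 [6, 10, 14, 18, 22, 1]) M117 = true := by decide +kernel

theorem sz119 : band (Nat.testBit M117 407) (sizeOk 11 M117 3) = true := by decide +kernel

theorem rw121 : U.rowOk GZ [13, 3, 1, 5, 7, 5, 3, 9, 7, 5, 13, 3] M12 407 M120 = true := by decide +kernel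

theorem pt125 : Nat.beq (patM (ones 1782) ML122 [10, 14, 18, 22, 26, 1, 5]) M124 = true := by decide +kernel

theorem sz126 : band (Nat.testBit M124 653) (sizeOk 11 M124 2) = true := by decide +kernel

theorem rw128 : U.rowOk GZ [13, 3, 5, 7, 5, 3, 9, 7, 5, 3, 1, 7, 13] M12 653 M127 = true := by decide +kernel

theorem pt131 : Nat.beq (patM (ones 1782) ML129 [2, 6, 14, 31, 18, 22, 26, 11]) (Nat.shiftLeft 1 835) = true := by decide +kernel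

theorem rw133 : U.rowOk GZ [13, 3, 1, 5, 7, 5, 3, 1, 9, 7, 5, 3, 1, 7] M12 835 M132 = true := by decide +kernel

theorem pt136 : Nat.beq (patM (ones 1782) ML134 [0, 8, 16, 20, 28, 5, 13]) (Nat.shiftLeft 1 860) = true := by decide +kernel

theorem rw138 : U.rowOk GZ [13, 3, 1, 5, 7, 5, 3, 9, 7, 5, 3, 1, 3, 5] M12 860 M137 = true := by decide +kernel

theorem pt141 : Nat.beq (patM (ones 1782) ML139 [0, 10, 18, 22, 27, 35, 31, 3]) (Nat.shiftLeft 1 852) = true := by decide +kernel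

theorem rw143 : U.rowOk GZ [13, 3, 1, 5, 7, 5, 3, 1, 9, 7, 5, 11, 3, 13] M12 852 M142 = true := by decide +kernel

theorem pt146 : Nat.beq (patM (ones 1782) ML144 [4, 16, 20, 8, 25, 1]) (Nat.shiftLeft 1 247) = true := by decide +kernel

theorem rw148 : U.rowOk GZ [13, 3, 1, 5, 3, 7, 5, 9, 7, 5, 3] M12 247 M147 = true := by decide +kernel

theorem pt151 : Nat.beq (patM (ones 1782) ML149 [0, 2, 4, 10, 15, 7]) (Nat.shiftLeft 1 1575) = true := by decide +kernel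

theorem rw153 : U.rowOk GZ [13, 3, 1, 5, 7, 5, 3, 1, 9, 11, 3, 5, 7, 5, 3, 7] M12 1575 M152 = true := by decide +kernel

theorem pt156 : Nat.beq (patM (ones 1782) ML154 [0, 20, 2, 4, 7, 13, 32]) (Nat.shiftLeft 1 1503) = true := by decide +kernel

theorem rw158 : U.rowOk GZ [13, 3, 1, 5, 3, 7, 5, 9, 7, 5, 3, 1, 11, 3, 5, 7] M12 1503 M157 = true := by decide +kernel

theorem pt161 : Nat.beq (patM (ones 1782) ML159 [2, 18, 38, 42, 27, 5, 9]) (Nat.shiftLeft 1 286) = true := by decide +kernel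

theorem rw163 : U.rowOk GZ [13, 3, 5, 7, 5, 3, 1, 9, 7, 5, 13] M12 286 M162 = true := by decide +kernel

theorem pt166 : Nat.beq (patM (ones 1782) ML164 [10, 36, 44, 9, 17, 41, 25, 1]) (Nat.shiftLeft 1 681) = true := by decide +kernel

theorem rw168 : U.rowOk GZ [13, 3, 5, 7, 5, 3, 9, 7, 5, 11, 13, 3, 1] M12 681 M167 = true := by decide +kernel

theorem pt171 : Nat.beq (patM (ones 1782) ML169 [0, 4, 38, 10, 7, 3]) (Nat.shiftLeft 1 245) = true := by decide +kernel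

theorem rw173 : U.rowOk GZ [13, 3, 1, 5, 3, 7, 5, 7, 9, 11, 3] M12 245 M172 = true := by decide +kernel

theorem pt176 : Nat.beq (patM (ones 1782) ML174 [4, 10, 32, 17, 41, 1, 13, 29, 15]) (Nat.shiftLeft 1 1202) = true := by decide +kernel

theorem rw178 : U.rowOk GZ [13, 3, 1, 5, 7, 5, 3, 1, 9, 7, 5, 3, 7, 9, 11] M12 1202 M177 = true := by decide +kernel

theorem pt181 : Nat.beq (patM (ones 1782) ML179 [2, 6, 18, 42, 8, 11]) (Nat.shiftLeft 1 1230) = true := by decide +kernel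

theorem rw183 : U.rowOk GZ [13, 3, 1, 5, 7, 5, 3, 9, 7, 5, 3, 7, 9, 11, 3] M12 1230 M182 = true := by decide +kernel

theorem pt186 : Nat.beq (patM (ones 1782) ML184 [0, 24, 20, 32, 7, 9]) (Nat.shiftLeft 1 1406) = true := by decide +kernel

theorem rw188 : U.rowOk GZ [13, 3, 1, 3, 5, 7, 5, 3, 9, 7, 5, 3, 11, 3, 13, 3] M12 1406 M187 = true := by decide +kernel

theorem pt191 : Nat.beq (patM (ones 1782) ML189 [8, 18, 20, 30, 38, 5]) (Nat.shiftLeft 1 1123) = true := by decide +kernel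

theorem rw193 : U.rowOk GZ [13, 3, 1, 5, 3, 7, 5, 3, 9, 7, 11, 3, 1, 5, 3] M12 1123 M192 = true := by decide +kernel

theorem pt196 : Nat.beq (patM (ones 1782) ML194 [14, 22, 16, 28, 1, 13]) (Nat.shiftLeft 1 1094) = true := by decide +kernel

theorem rw198 : U.rowOk GZ [13, 3, 1, 5, 3, 7, 5, 3, 7, 9, 7, 5, 3, 13, 11] M12 1094 M197 = true := by decide +kernel

theorem pt201 : Nat.beq (patM (ones 1782) ML199 [8, 22, 14, 20, 24]) (Nat.shiftLeft 1 1192) = true := by decide +kernel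

theorem rw203 : U.rowOk GZ [13, 3, 1, 5, 3, 7, 5, 9, 7, 11, 3, 5, 7, 13, 3] M12 1192 M202 = true := by decide +kernel

theorem pt206 : Nat.beq (patM (ones 1782) ML204 [0, 14, 18, 36, 16]) (Nat.shiftLeft 1 850) = true := by decide +kernel

theorem rw208 : U.rowOk GZ [13, 3, 1, 5, 7, 5, 3, 1, 9, 7, 5, 11, 3, 1] M12 850 M207 = true := by decide +kernel

theorem pt211 : Nat.beq (patM (ones 1782) ML209 [10, 34, 30, 18, 9, 15]) (Nat.shiftLeft 1 1716) = true := by decide +kernel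

theorem rw213 : U.rowOk GZ [13, 3, 1, 5, 3, 7, 5, 9, 7, 5, 3, 1, 3, 11, 3, 5, 7] M12 1716 M212 = true := by decide +kernel

theorem pt216 : Nat.beq (patM (ones 1782) ML214 [10, 20, 12, 26, 30]) (Nat.shiftLeft 1 541) = true := by decide +kernel

theorem rw218 : U.rowOk GZ [13, 3, 1, 5, 3, 7, 5, 7, 9, 7, 5, 3, 7] M12 541 M217 = true := by decide +kernel

theorem pt221 : Nat.beq (patM (ones 1782) ML219 [16, 18, 20, 22, 7, 1, 5]) (Nat.shiftLeft 1 809) = true := by decide +kernel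

theorem rw223 : U.rowOk GZ [13, 3, 1, 5, 3, 7, 5, 9, 7, 5, 3, 11, 3, 5] M12 809 M222 = true := by decide +kernel

theorem sep226 : sepM ML224 (ones 1782) = true := by decide +kernel

theorem rel235 : U.rel 11 [1, 1] 0 11 = true := by decide +kernel

theorem rel236 : U.rel 11 [3, 3] 0 11 = true := by decide +kernel

theorem rel237 : U.rel 11 [5, 5] 0 11 = true := by decide +kernel

theorem rel238 : U.rel 11 [7, 7] 0 11 = true := by decide +kernel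

theorem rel239 : U.rel 11 [9, 9] 0 11 = true := by decide +kernel

theorem rel240 : U.rel 11 [11, 11] 0 11 = true := by decide +kernel

theorem uok7 : Net.okb 11 un7 = true := by decide +kernel

theorem rel241 : U.rel 11 [15, 3, 1, 3, 11, 1, 3] 0 11 = true := by decide +kernel

theorem uok8 : Net.okb 11 un8 = true := by decide +kernel

theorem rel242 : U.rel 11 [17, 3, 5, 7, 11, 3, 5, 7, 3, 1, 3, 5, 1, 3] 0 11 = true := by decide +kernel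

theorem rel243 : U.rel 11 [3, 1, 3, 1, 3, 1, 3, 1, 3, 1] 0 11 = true := by decide +kernel

theorem rel244 : U.rel 11 [5, 1, 5, 1] 0 11 = true := by decide +kernel

theorem rel245 : U.rel 11 [7, 1, 7, 1] 0 11 = true := by decide +kernel

theorem rel246 : U.rel 11 [9, 1, 9, 1] 0 11 = true := by decide +kernel

theorem rel247 : U.rel 11 [11, 1, 11, 1] 0 11 = true := by decide +kernel

theorem rel248 : U.rel 11 [5, 3, 5, 3, 5, 3] 0 11 = true := by decide +kernel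

theorem rel249 : U.rel 11 [7, 3, 7, 3] 0 11 = true := by decide +kernel

theorem rel250 : U.rel 11 [9, 3, 9, 3] 0 11 = true := by decide +kernel

theorem rel251 : U.rel 11 [11, 3, 11, 3, 11, 3] 0 11 = true := by decide +kernel

theorem rel252 : U.rel 11 [7, 5, 7, 5, 7, 5, 7, 5, 7, 5, 7, 5, 7, 5, 7, 5] 0 11 = true := by decide +kernel

theorem rel253 : U.rel 11 [9, 5, 9, 5] 0 11 = true := by decide +kernel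

theorem rel254 : U.rel 11 [11, 5, 11, 5] 0 11 = true := by decide +kernel

theorem rel255 : U.rel 11 [9, 7, 9, 7, 9, 7] 0 11 = true := by decide +kernel

theorem rel256 : U.rel 11 [11, 7, 11, 7] 0 11 = true := by decide +kernel

theorem rel257 : U.rel 11 [11, 9, 11, 9] 0 11 = true := by decide +kernel

theorem rel258 : U.rel 11 [5, 7, 5, 7, 5, 7, 5, 7, 1] 0 11 = true := by decide +kernel

theorem rel259 : U.rel 11 [11, 5, 3, 1, 11, 5, 3, 1, 11, 5, 3, 1, 11, 5, 3, 1, 11, 5, 3, 1] 0 11 = true := by decide +kernel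

theorem rel260 : U.rel 11 [9, 7, 5, 7, 5, 3, 7, 5, 7, 5, 3, 7, 5, 7, 5, 3, 7, 5, 7, 5, 3, 7, 5, 7, 5, 3, 9, 7, 5, 7, 5, 3, 7, 5, 7, 5, 3, 7, 5, 7, 5, 3, 7, 5, 7, 5, 3, 7, 5, 7, 5, 3, 9, 7, 5, 7, 5, 3, 7, 5, 7, 5, 3, 7, 5, 7, 5, 3, 7, 5, 7, 5, 3, 7, 5, 7, 5, 3] 0 11 = true := by decide +kernel

theorem sd261 : U.sends [1] 2 3 = true := by decide +kernel

theorem rel264 : U.rel 11 [4, 6, 8, 6, 8, 4, 6, 8, 6, 8, 4, 6, 8, 6, 8, 4, 6, 8, 6, 8, 4, 6, 8, 6, 8, 2, 7, 5, 7, 5, 3, 7, 5, 7, 5, 3, 7, 5, 7, 5, 3, 7, 5, 7, 5, 3, 7, 5, 7, 5, 3, 1] 0 11 = true := by decide +kernel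

theorem rel265 : U.rel 11 [4, 6, 8, 6, 8, 4, 6, 8, 6, 8, 4, 6, 8, 6, 8, 4, 6, 8, 6, 8, 4, 6, 8, 6, 8, 4, 7, 5, 7, 5, 3, 7, 5, 7, 5, 3, 7, 5, 7, 5, 3, 7, 5, 7, 5, 3, 7, 5, 7, 5, 3, 3] 0 11 = true := by decide +kernel

theorem rel266 : U.rel 11 [4, 6, 8, 6, 8, 4, 6, 8, 6, 8, 4, 6, 8, 6, 8, 4, 6, 8, 6, 8, 4, 6, 8, 6, 8, 6, 7, 5, 7, 5, 3, 7, 5, 7, 5, 3, 7, 5, 7, 5, 3, 7, 5, 7, 5, 3, 7, 5, 7, 5, 3, 5] 0 11 = true := by decide +kernel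

theorem rel267 : U.rel 11 [7, 5, 7, 5, 3, 7, 5, 7, 5, 3, 7, 5, 7, 5, 3, 7, 5, 7, 5, 3, 7, 5, 7, 5, 3, 8, 7, 5, 7, 5, 3, 7, 5, 7, 5, 3, 7, 5, 7, 5, 3, 7, 5, 7, 5, 3, 7, 5, 7, 5, 3, 7] 0 11 = true := by decide +kernel

theorem rel268 : U.rel 11 [4, 6, 8, 6, 8, 4, 6, 8, 6, 8, 4, 6, 8, 6, 8, 4, 6, 8, 6, 8, 4, 6, 8, 6, 8, 12, 7, 5, 7, 5, 3, 7, 5, 7, 5, 3, 7, 5, 7, 5, 3, 7, 5, 7, 5, 3, 7, 5, 7, 5, 3, 11] 0 11 = true := by decide +kernel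

theorem rel269 : U.rel 11 [5, 3, 1, 3, 5, 7, 9, 7, 5, 3, 9, 7, 5, 3, 7, 5, 3, 1, 3, 5, 5, 3, 1, 3, 5, 7, 9, 7, 5, 3, 9, 7, 5, 3, 7, 5, 3, 1, 3, 5, 5, 3, 1, 3, 5, 7, 9, 7, 5, 3, 9, 7, 5, 3, 7, 5, 3, 1, 3, 5, 5, 3, 1, 3, 5, 7, 9, 7, 5, 3, 9, 7, 5, 3, 7, 5, 3, 1, 3, 5, 5, 3, 1, 3, 5, 7, 9, 7, 5, 3, 9, 7, 5, 3, 7, 5, 3, 1, 3, 5] 0 11 = true := by decide +kernel

theorem rel270 : U.rel 11 [6, 4, 2, 4, 6, 8, 4, 6, 8, 10, 4, 6, 8, 10, 8, 6, 4, 2, 4, 6, 2, 4, 5, 3, 1, 3, 5, 7, 9, 7, 5, 3, 9, 7, 5, 3, 7, 5, 3, 1, 3, 5, 3, 1] 0 11 = true := by decide +kernel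

theorem rel271 : U.rel 11 [7, 5, 7, 5, 3, 7, 5, 7, 5, 3, 7, 5, 7, 5, 3, 7, 5, 7, 5, 3, 7, 5, 7, 5, 3, 7, 5, 7, 5, 3, 7, 5, 7, 5, 3, 7, 5, 7, 5, 3, 7, 5, 7, 5, 3, 7, 5, 7, 5, 3, 7, 5, 7, 5, 3, 7, 5, 7, 5, 3, 7, 5, 7, 5, 3, 7, 5, 7, 5, 3, 7, 5, 7, 5, 3] 0 11 = true := by decide +kernel

theorem rel273 : U.rel 11 [11, 9, 7, 5, 3, 1, 11, 9, 7, 5, 3, 1, 11, 9, 7, 5, 3, 1, 11, 9, 7, 5, 3, 1, 11, 9, 7, 5, 3, 1, 11, 9, 7, 5, 3, 1, 11, 9, 7, 5, 3, 1, 11, 9, 7, 5, 3, 1, 11, 9, 7, 5, 3, 1, 11, 9, 7, 5, 3, 1, 11, 9, 7, 5, 3, 1, 11, 9, 7, 5, 3, 1, 11, 9, 7, 5, 3, 1, 11, 9, 7, 5, 3, 1, 11, 9, 7, 5, 3, 1, 11, 9, 7, 5, 3, 1, 11, 9, 7, 5, 3, 1, 11, 9, 7, 5, 3, 1, 11, 9, 7, 5, 3, 1, 11, 9, 7, 5, 3, 1, 11, 9, 7, 5, 3, 1] 0 11 = true := by decide +kernel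

theorem fx274 : U.closedW [[7, 5, 7, 5, 3, 7, 5, 7, 5, 3, 7, 5, 7, 5, 3, 7, 5, 7, 5, 3, 7, 5, 7, 5, 3]] (Nat.shiftLeft 1 995) = true := by decide +kernel

theorem sh275 : sizeOk 11 (U.shrink W262 [1, 1] (U.fixM 11 [7, 5, 7, 5, 3, 7, 5, 7, 5, 3, 7, 5, 7, 5, 3, 7, 5, 7, 5, 3, 7, 5, 7, 5, 3] M12)) 6 = true := by decide +kernel

theorem fx276 : U.closedW [[8, 10, 7, 5, 7, 5, 3, 7, 5, 7, 5, 3, 7, 5, 7, 5, 3, 7, 5, 7, 5, 3, 7, 5, 7, 5, 3, 9, 7]] (Nat.shiftLeft 1 995) = true := by decide +kernel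

theorem sh277 : sizeOk 11 (U.shrink W262 [1] (U.fixM 11 [8, 10, 7, 5, 7, 5, 3, 7, 5, 7, 5, 3, 7, 5, 7, 5, 3, 7, 5, 7, 5, 3, 7, 5, 7, 5, 3, 9, 7] M12)) 6 = true := by decide +kernel

theorem fx278 : U.closedW [[6, 8, 10, 7, 5, 7, 5, 3, 7, 5, 7, 5, 3, 7, 5, 7, 5, 3, 7, 5, 7, 5, 3, 7, 5, 7, 5, 3, 9, 7, 5]] (Nat.shiftLeft 1 995) = true := by decide +kernel

theorem sh279 : sizeOk 11 (U.shrink W262 [0, 0] (U.fixM 11 [6, 8, 10, 7, 5, 7, 5, 3, 7, 5, 7, 5, 3, 7, 5, 7, 5, 3, 7, 5, 7, 5, 3, 7, 5, 7, 5, 3, 9, 7, 5] M12)) 1 = true := by decide +kernel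

theorem fx280 : U.closedW [[8, 6, 8, 10, 7, 5, 7, 5, 3, 7, 5, 7, 5, 3, 7, 5, 7, 5, 3, 7, 5, 7, 5, 3, 7, 5, 7, 5, 3, 9, 7, 5, 7]] (Nat.shiftLeft 1 995) = true := by decide +kernel

theorem sh281 : sizeOk 11 (U.shrink W262 [0, 0] (U.fixM 11 [8, 6, 8, 10, 7, 5, 7, 5, 3, 7, 5, 7, 5, 3, 7, 5, 7, 5, 3, 7, 5, 7, 5, 3, 7, 5, 7, 5, 3, 9, 7, 5, 7] M12)) 1 = true := by decide +kernel

theorem gr282 : sub M12 (U.growI ([12, 4, 6, 8, 10, 7, 5, 7, 5, 3, 7, 5, 7, 5, 3, 7, 5, 7, 5, 3, 7, 5, 7, 5, 3, 7, 5, 7, 5, 3, 9, 7, 5, 3, 11] :: W262) [0, 1, 2, 2, 1, 0, 0, 1, 2, 2, 1, 0, 0, 1, 2, 2, 1, 1] (Nat.shiftLeft 1 995)) = true := by decide +kernel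

theorem fx284 : U.closedW [[10, 8, 6, 8, 10, 7, 5, 7, 5, 3, 7, 5, 7, 5, 3, 7, 5, 7, 5, 3, 7, 5, 7, 5, 3, 7, 5, 7, 5, 3, 9, 7, 5, 7, 9]] (Nat.shiftLeft 1 995) = true := by decide +kernel

theorem sh285 : sizeOk 11 (U.shrink W262 [0, 0] (U.fixM 11 [10, 8, 6, 8, 10, 7, 5, 7, 5, 3, 7, 5, 7, 5, 3, 7, 5, 7, 5, 3, 7, 5, 7, 5, 3, 7, 5, 7, 5, 3, 9, 7, 5, 7, 9] M12)) 1 = true := by decide +kernel

theorem fx286 : U.closedW [[6, 8, 4, 6, 8, 10, 7, 5, 7, 5, 3, 7, 5, 7, 5, 3, 7, 5, 7, 5, 3, 7, 5, 7, 5, 3, 7, 5, 7, 5, 3, 9, 7, 5, 3, 7, 5]] (Nat.shiftLeft 1 995) = true := by decide +kernel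

theorem sh287 : sizeOk 11 (U.shrink W262 [0, 0] (U.fixM 11 [6, 8, 4, 6, 8, 10, 7, 5, 7, 5, 3, 7, 5, 7, 5, 3, 7, 5, 7, 5, 3, 7, 5, 7, 5, 3, 7, 5, 7, 5, 3, 9, 7, 5, 3, 7, 5] M12)) 1 = true := by decide +kernel

theorem gr288 : sub M12 (U.growI ([12, 8, 4, 6, 8, 10, 7, 5, 7, 5, 3, 7, 5, 7, 5, 3, 7, 5, 7, 5, 3, 7, 5, 7, 5, 3, 7, 5, 7, 5, 3, 9, 7, 5, 3, 7, 11] :: W262) [0, 1, 2, 2, 1, 0, 0, 1, 2, 2, 1, 0, 0, 1, 2, 2, 1, 0, 1] (Nat.shiftLeft 1 995)) = true := by decide +kernel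

theorem gr290 : sub M12 (U.growI ([12, 4, 2, 4, 6, 8, 10, 7, 5, 7, 5, 3, 7, 5, 7, 5, 3, 7, 5, 7, 5, 3, 7, 5, 7, 5, 3, 7, 5, 7, 5, 3, 9, 7, 5, 3, 1, 3, 11] :: W262) [0, 1, 2, 2, 1, 0, 0, 1, 2, 2, 1, 0, 0, 1, 2, 2, 1] (Nat.shiftLeft 1 995)) = true := by decide +kernel

theorem fx292 : U.closedW [[10, 6, 8, 4, 6, 8, 10, 7, 5, 7, 5, 3, 7, 5, 7, 5, 3, 7, 5, 7, 5, 3, 7, 5, 7, 5, 3, 7, 5, 7, 5, 3, 9, 7, 5, 3, 7, 5, 9]] (Nat.shiftLeft 1 995) = true := by decide +kernel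

theorem sh293 : sizeOk 11 (U.shrink W262 [0, 0] (U.fixM 11 [10, 6, 8, 4, 6, 8, 10, 7, 5, 7, 5, 3, 7, 5, 7, 5, 3, 7, 5, 7, 5, 3, 7, 5, 7, 5, 3, 7, 5, 7, 5, 3, 9, 7, 5, 3, 7, 5, 9] M12)) 1 = true := by decide +kernel

theorem gr294 : sub M12 (U.growI ([12, 6, 8, 4, 6, 8, 10, 7, 5, 7, 5, 3, 7, 5, 7, 5, 3, 7, 5, 7, 5, 3, 7, 5, 7, 5, 3, 7, 5, 7, 5, 3, 9, 7, 5, 3, 7, 5, 11] :: W262) [0, 1, 2, 2, 1, 0, 0, 1, 2, 2, 1, 0, 0, 1, 2, 2, 1, 0, 1, 2] (Nat.shiftLeft 1 995)) = true := by decide +kernel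

theorem gr296 : sub M12 (U.growI ([12, 10, 8, 4, 6, 8, 10, 7, 5, 7, 5, 3, 7, 5, 7, 5, 3, 7, 5, 7, 5, 3, 7, 5, 7, 5, 3, 7, 5, 7, 5, 3, 9, 7, 5, 3, 7, 9, 11] :: W262) [0, 1, 2, 2, 1, 0, 0, 1, 2, 2, 1, 0, 0, 1, 2, 2, 1, 1] (Nat.shiftLeft 1 995)) = true := by decide +kernel

theorem gr298 : sub M12 (U.growI ([12, 8, 4, 2, 4, 6, 8, 10, 7, 5, 7, 5, 3, 7, 5, 7, 5, 3, 7, 5, 7, 5, 3, 7, 5, 7, 5, 3, 7, 5, 7, 5, 3, 9, 7, 5, 3, 1, 3, 7, 11] :: W262) [0, 1, 2, 2, 1, 0, 0, 1, 2, 2, 1, 0, 0, 1, 2, 2, 1, 0, 0, 1] (Nat.shiftLeft 1 995)) = true := by decide +kernel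

theorem gr300 : sub M12 (U.growI ([12, 8, 6, 8, 4, 6, 8, 10, 7, 5, 7, 5, 3, 7, 5, 7, 5, 3, 7, 5, 7, 5, 3, 7, 5, 7, 5, 3, 7, 5, 7, 5, 3, 9, 7, 5, 3, 7, 5, 7, 11] :: W262) [0, 1, 2, 2, 1, 0, 0, 1, 2, 2, 1, 0, 0, 1, 2, 2, 1] (Nat.shiftLeft 1 995)) = true := by decide +kernel

theorem gr302 : sub M12 (U.growI ([12, 10, 6, 8, 4, 6, 8, 10, 7, 5, 7, 5, 3, 7, 5, 7, 5, 3, 7, 5, 7, 5, 3, 7, 5, 7, 5, 3, 7, 5, 7, 5, 3, 9, 7, 5, 3, 7, 5, 9, 11] :: W262) [0, 1, 2, 2, 1, 0, 0, 1, 2, 2, 1, 0, 0, 1, 2, 2] (Nat.shiftLeft 1 995)) = true := by decide +kernel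

theorem gr304 : sub M12 (U.growI ([12, 4, 6, 8, 2, 4, 6, 8, 10, 7, 5, 7, 5, 3, 7, 5, 7, 5, 3, 7, 5, 7, 5, 3, 7, 5, 7, 5, 3, 7, 5, 7, 5, 3, 9, 7, 5, 3, 1, 7, 5, 3, 11] :: W262) [0, 1, 2, 2, 1, 0, 0, 1, 2, 2, 1, 0, 0, 1, 2, 2, 1, 0, 1, 2] (Nat.shiftLeft 1 995)) = true := by decide +kernel

theorem gr306 : sub M12 (U.growI ([6, 4, 12, 8, 2, 4, 6, 8, 10, 7, 5, 7, 5, 3, 7, 5, 7, 5, 3, 7, 5, 7, 5, 3, 7, 5, 7, 5, 3, 7, 5, 7, 5, 3, 9, 7, 5, 3, 1, 7, 11, 3, 5] :: W262) [0, 1, 2, 2, 1, 0, 0, 1, 2, 2, 1, 0, 0, 1, 2, 2, 1] (Nat.shiftLeft 1 995)) = true := by decide +kernel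

theorem fx308 : U.closedW [[6, 8, 10, 6, 8, 4, 6, 8, 10, 7, 5, 7, 5, 3, 7, 5, 7, 5, 3, 7, 5, 7, 5, 3, 7, 5, 7, 5, 3, 7, 5, 7, 5, 3, 9, 7, 5, 3, 7, 5, 9, 7, 5]] (Nat.shiftLeft 1 995) = true := by decide +kernel

theorem sh309 : sizeOk 11 (U.shrink W262 [1, 0] (U.fixM 11 [6, 8, 10, 6, 8, 4, 6, 8, 10, 7, 5, 7, 5, 3, 7, 5, 7, 5, 3, 7, 5, 7, 5, 3, 7, 5, 7, 5, 3, 7, 5, 7, 5, 3, 9, 7, 5, 3, 7, 5, 9, 7, 5] M12)) 1 = true := by decide +kernel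

theorem gr310 : sub M12 (U.growI ([12, 8, 6, 8, 4, 2, 4, 6, 8, 10, 7, 5, 7, 5, 3, 7, 5, 7, 5, 3, 7, 5, 7, 5, 3, 7, 5, 7, 5, 3, 7, 5, 7, 5, 3, 9, 7, 5, 3, 1, 3, 7, 5, 7, 11] :: W262) [0, 1, 2, 2, 1, 0, 0, 1, 2, 2, 1, 0, 0, 1, 2, 2, 1] (Nat.shiftLeft 1 995)) = true := by decide +kernel

theorem fx312 : U.closedW [[8, 10, 6, 8, 4, 2, 4, 6, 8, 10, 7, 5, 7, 5, 3, 7, 5, 7, 5, 3, 7, 5, 7, 5, 3, 7, 5, 7, 5, 3, 7, 5, 7, 5, 3, 9, 7, 5, 3, 1, 3, 7, 5, 9, 7]] (Nat.shiftLeft 1 995) = true := by decide +kernel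

theorem sh313 : sizeOk 11 (U.shrink W262 [1, 0] (U.fixM 11 [8, 10, 6, 8, 4, 2, 4, 6, 8, 10, 7, 5, 7, 5, 3, 7, 5, 7, 5, 3, 7, 5, 7, 5, 3, 7, 5, 7, 5, 3, 7, 5, 7, 5, 3, 9, 7, 5, 3, 1, 3, 7, 5, 9, 7] M12)) 1 = true := by decide +kernel

theorem gr314 : sub M12 (U.growI ([6, 4, 12, 8, 4, 2, 4, 6, 8, 10, 7, 5, 7, 5, 3, 7, 5, 7, 5, 3, 7, 5, 7, 5, 3, 7, 5, 7, 5, 3, 7, 5, 7, 5, 3, 9, 7, 5, 3, 1, 3, 7, 11, 3, 5] :: W262) [0, 1, 2, 2, 1, 0, 0, 1, 2, 2, 1, 0, 0, 1, 2, 2, 1, 0, 1] (Nat.shiftLeft 1 995)) = true := by decide +kernel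

theorem fx316 : U.closedW [[6, 8, 10, 6, 8, 2, 4, 6, 8, 10, 7, 5, 7, 5, 3, 7, 5, 7, 5, 3, 7, 5, 7, 5, 3, 7, 5, 7, 5, 3, 7, 5, 7, 5, 3, 9, 7, 5, 3, 1, 7, 5, 9, 7, 5]] (Nat.shiftLeft 1 995) = true := by decide +kernel

theorem sh317 : sizeOk 11 (U.shrink W262 [1, 1] (U.fixM 11 [6, 8, 10, 6, 8, 2, 4, 6, 8, 10, 7, 5, 7, 5, 3, 7, 5, 7, 5, 3, 7, 5, 7, 5, 3, 7, 5, 7, 5, 3, 7, 5, 7, 5, 3, 9, 7, 5, 3, 1, 7, 5, 9, 7, 5] M12)) 1 = true := by decide +kernel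

theorem gr318 : sub M12 (U.growI ([6, 4, 12, 10, 8, 2, 4, 6, 8, 10, 7, 5, 7, 5, 3, 7, 5, 7, 5, 3, 7, 5, 7, 5, 3, 7, 5, 7, 5, 3, 7, 5, 7, 5, 3, 9, 7, 5, 3, 1, 7, 9, 11, 3, 5] :: W262) [0, 1, 2, 2, 1, 0, 0, 1, 2, 2, 1, 0, 0, 1, 2, 2, 1] (Nat.shiftLeft 1 995)) = true := by decide +kernel

theorem gr320 : sub M12 (U.growI ([8, 6, 4, 12, 8, 2, 4, 6, 8, 10, 7, 5, 7, 5, 3, 7, 5, 7, 5, 3, 7, 5, 7, 5, 3, 7, 5, 7, 5, 3, 7, 5, 7, 5, 3, 9, 7, 5, 3, 1, 7, 11, 3, 5, 7] :: W262) [0, 1, 2, 2, 1, 0, 0, 1, 2, 2, 1, 0, 0, 1, 2, 2, 1, 0] (Nat.shiftLeft 1 995)) = true := by decide +kernel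

theorem gr322 : sub M12 (U.growI ([12, 6, 8, 10, 6, 8, 4, 6, 8, 10, 7, 5, 7, 5, 3, 7, 5, 7, 5, 3, 7, 5, 7, 5, 3, 7, 5, 7, 5, 3, 7, 5, 7, 5, 3, 9, 7, 5, 3, 7, 5, 9, 7, 5, 11] :: W262) [0, 1, 2, 2, 1, 0, 0, 1, 2, 2, 1, 0, 0, 1, 2, 2, 1, 0, 1] (Nat.shiftLeft 1 995)) = true := by decide +kernel

theorem fx324 : U.closedW [[6, 8, 10, 6, 8, 4, 2, 4, 6, 8, 10, 7, 5, 7, 5, 3, 7, 5, 7, 5, 3, 7, 5, 7, 5, 3, 7, 5, 7, 5, 3, 7, 5, 7, 5, 3, 9, 7, 5, 3, 1, 3, 7, 5, 9, 7, 5]] (Nat.shiftLeft 1 995) = true := by decide +kernel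

theorem sh325 : sizeOk 11 (U.shrink W262 [0, 1] (U.fixM 11 [6, 8, 10, 6, 8, 4, 2, 4, 6, 8, 10, 7, 5, 7, 5, 3, 7, 5, 7, 5, 3, 7, 5, 7, 5, 3, 7, 5, 7, 5, 3, 7, 5, 7, 5, 3, 9, 7, 5, 3, 1, 3, 7, 5, 9, 7, 5] M12)) 1 = true := by decide +kernel

theorem gr326 : sub M12 (U.growI ([12, 8, 10, 6, 8, 4, 2, 4, 6, 8, 10, 7, 5, 7, 5, 3, 7, 5, 7, 5, 3, 7, 5, 7, 5, 3, 7, 5, 7, 5, 3, 7, 5, 7, 5, 3, 9, 7, 5, 3, 1, 3, 7, 5, 9, 7, 11] :: W262) [0, 1, 2, 2, 1, 0, 0, 1, 2, 2, 1, 0, 0, 1, 2, 2, 1, 0] (Nat.shiftLeft 1 995)) = true := by decide +kernel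

theorem gr328 : sub M12 (U.growI ([8, 6, 4, 12, 8, 4, 2, 4, 6, 8, 10, 7, 5, 7, 5, 3, 7, 5, 7, 5, 3, 7, 5, 7, 5, 3, 7, 5, 7, 5, 3, 7, 5, 7, 5, 3, 9, 7, 5, 3, 1, 3, 7, 11, 3, 5, 7] :: W262) [0, 1, 2, 2, 1, 0, 0, 1, 2, 2, 1, 0, 0, 1, 2, 2, 1] (Nat.shiftLeft 1 995)) = true := by decide +kernel

theorem fx330 : U.closedW [[6, 8, 10, 4, 6, 8, 2, 4, 6, 8, 10, 7, 5, 7, 5, 3, 7, 5, 7, 5, 3, 7, 5, 7, 5, 3, 7, 5, 7, 5, 3, 7, 5, 7, 5, 3, 9, 7, 5, 3, 1, 7, 5, 3, 9, 7, 5]] (Nat.shiftLeft 1 995) = true := by decide +kernel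

theorem sh331 : sizeOk 11 (U.shrink W262 [0, 1] (U.fixM 11 [6, 8, 10, 4, 6, 8, 2, 4, 6, 8, 10, 7, 5, 7, 5, 3, 7, 5, 7, 5, 3, 7, 5, 7, 5, 3, 7, 5, 7, 5, 3, 7, 5, 7, 5, 3, 9, 7, 5, 3, 1, 7, 5, 3, 9, 7, 5] M12)) 1 = true := by decide +kernel

theorem gr332 : sub M12 (U.growI ([6, 4, 12, 4, 6, 8, 2, 4, 6, 8, 10, 7, 5, 7, 5, 3, 7, 5, 7, 5, 3, 7, 5, 7, 5, 3, 7, 5, 7, 5, 3, 7, 5, 7, 5, 3, 9, 7, 5, 3, 1, 7, 5, 3, 11, 3, 5] :: W262) [0, 1, 2, 2, 1, 0, 0, 1, 2, 2, 1, 0, 0, 1, 2, 2, 1] (Nat.shiftLeft 1 995)) = true := by decide +kernel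

theorem gr334 : sub M12 (U.growI ([12, 6, 8, 10, 6, 8, 2, 4, 6, 8, 10, 7, 5, 7, 5, 3, 7, 5, 7, 5, 3, 7, 5, 7, 5, 3, 7, 5, 7, 5, 3, 7, 5, 7, 5, 3, 9, 7, 5, 3, 1, 7, 5, 9, 7, 5, 11] :: W262) [0, 1, 2, 2, 1, 0, 0, 1, 2, 2, 1, 0, 0, 1, 2, 2, 1] (Nat.shiftLeft 1 995)) = true := by decide +kernel

theorem gr336 : sub M12 (U.growI ([8, 6, 4, 12, 10, 8, 2, 4, 6, 8, 10, 7, 5, 7, 5, 3, 7, 5, 7, 5, 3, 7, 5, 7, 5, 3, 7, 5, 7, 5, 3, 7, 5, 7, 5, 3, 9, 7, 5, 3, 1, 7, 9, 11, 3, 5, 7] :: W262) [0, 1, 2, 2, 1, 0, 0, 1, 2, 2, 1, 0, 0, 1, 2, 2, 1, 1] (Nat.shiftLeft 1 995)) = true := by decide +kernel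

theorem fx338 : U.closedW [[8, 6, 8, 10, 8, 6, 8, 4, 6, 8, 10, 7, 5, 7, 5, 3, 7, 5, 7, 5, 3, 7, 5, 7, 5, 3, 7, 5, 7, 5, 3, 7, 5, 7, 5, 3, 9, 7, 5, 3, 7, 5, 7, 9, 7, 5, 7]] (Nat.shiftLeft 1 995) = true := by decide +kernel

theorem sh339 : sizeOk 11 (U.shrink W262 [1] (U.fixM 11 [8, 6, 8, 10, 8, 6, 8, 4, 6, 8, 10, 7, 5, 7, 5, 3, 7, 5, 7, 5, 3, 7, 5, 7, 5, 3, 7, 5, 7, 5, 3, 7, 5, 7, 5, 3, 9, 7, 5, 3, 7, 5, 7, 9, 7, 5, 7] M12)) 6 = true := by decide +kernel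

theorem gr340 : sub M12 (U.growI ([12, 6, 8, 10, 8, 6, 8, 4, 6, 8, 10, 7, 5, 7, 5, 3, 7, 5, 7, 5, 3, 7, 5, 7, 5, 3, 7, 5, 7, 5, 3, 7, 5, 7, 5, 3, 9, 7, 5, 3, 7, 5, 7, 9, 7, 5, 11] :: W262) [0, 1, 2, 2, 1, 0, 0, 1, 2, 2, 1, 0, 0, 1, 2, 2, 1] (Nat.shiftLeft 1 995)) = true := by decide +kernel

theorem gr342 : sub M12 (U.growI ([12, 4, 6, 8, 10, 6, 8, 4, 6, 8, 10, 7, 5, 7, 5, 3, 7, 5, 7, 5, 3, 7, 5, 7, 5, 3, 7, 5, 7, 5, 3, 7, 5, 7, 5, 3, 9, 7, 5, 3, 7, 5, 9, 7, 5, 3, 11] :: W262) [0, 1, 2, 2, 1, 0, 0, 1, 2, 2, 1, 0, 0, 1, 2, 2, 1, 0, 1] (Nat.shiftLeft 1 995)) = true := by decide +kernel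

theorem gr344 : sub M12 (U.growI ([6, 4, 12, 8, 10, 6, 8, 4, 6, 8, 10, 7, 5, 7, 5, 3, 7, 5, 7, 5, 3, 7, 5, 7, 5, 3, 7, 5, 7, 5, 3, 7, 5, 7, 5, 3, 9, 7, 5, 3, 7, 5, 9, 7, 11, 3, 5] :: W262) [0, 1, 2, 2, 1, 0, 0, 1, 2, 2, 1, 0, 0, 1, 2, 2, 1] (Nat.shiftLeft 1 995)) = true := by decide +kernel

theorem gr346 : sub M12 (U.growI ([12, 8, 10, 4, 6, 8, 4, 2, 4, 6, 8, 10, 7, 5, 7, 5, 3, 7, 5, 7, 5, 3, 7, 5, 7, 5, 3, 7, 5, 7, 5, 3, 7, 5, 7, 5, 3, 9, 7, 5, 3, 1, 3, 7, 5, 3, 9, 7, 11] :: W262) [0, 1, 2, 2, 1, 0, 0, 1, 2, 2, 1, 0, 0, 1, 2, 2, 1, 0] (Nat.shiftLeft 1 995)) = true := by decide +kernel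

theorem gr348 : sub M12 (U.growI ([12, 6, 8, 10, 6, 8, 4, 2, 4, 6, 8, 10, 7, 5, 7, 5, 3, 7, 5, 7, 5, 3, 7, 5, 7, 5, 3, 7, 5, 7, 5, 3, 7, 5, 7, 5, 3, 9, 7, 5, 3, 1, 3, 7, 5, 9, 7, 5, 11] :: W262) [0, 1, 2, 2, 1, 0, 0, 1, 2, 2, 1, 0, 0, 1, 2, 2, 1] (Nat.shiftLeft 1 995)) = true := by decide +kernel

theorem gr350 : sub M12 (U.growI ([8, 6, 4, 12, 10, 8, 4, 2, 4, 6, 8, 10, 7, 5, 7, 5, 3, 7, 5, 7, 5, 3, 7, 5, 7, 5, 3, 7, 5, 7, 5, 3, 7, 5, 7, 5, 3, 9, 7, 5, 3, 1, 3, 7, 9, 11, 3, 5, 7] :: W262) [0, 1, 2, 2, 1, 0, 0, 1, 2, 2, 1, 0, 0, 1, 2, 2, 1, 0, 1] (Nat.shiftLeft 1 995)) = true := by decide +kernel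

theorem fx352 : U.closedW [[8, 6, 8, 10, 4, 6, 8, 2, 4, 6, 8, 10, 7, 5, 7, 5, 3, 7, 5, 7, 5, 3, 7, 5, 7, 5, 3, 7, 5, 7, 5, 3, 7, 5, 7, 5, 3, 9, 7, 5, 3, 1, 7, 5, 3, 9, 7, 5, 7]] (Nat.shiftLeft 1 995) = true := by decide +kernel

theorem sh353 : sizeOk 11 (U.shrink W262 [0] (U.fixM 11 [8, 6, 8, 10, 4, 6, 8, 2, 4, 6, 8, 10, 7, 5, 7, 5, 3, 7, 5, 7, 5, 3, 7, 5, 7, 5, 3, 7, 5, 7, 5, 3, 7, 5, 7, 5, 3, 9, 7, 5, 3, 1, 7, 5, 3, 9, 7, 5, 7] M12)) 6 = true := by decide +kernel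

theorem gr354 : sub M12 (U.growI ([12, 6, 8, 10, 4, 6, 8, 2, 4, 6, 8, 10, 7, 5, 7, 5, 3, 7, 5, 7, 5, 3, 7, 5, 7, 5, 3, 7, 5, 7, 5, 3, 7, 5, 7, 5, 3, 9, 7, 5, 3, 1, 7, 5, 3, 9, 7, 5, 11] :: W262) [0, 1, 2, 2, 1, 0, 0, 1, 2, 2, 1, 0, 0, 1, 2, 2, 1, 0] (Nat.shiftLeft 1 995)) = true := by decide +kernel

theorem fx356 : U.closedW [[8, 6, 8, 10, 8, 6, 8, 2, 4, 6, 8, 10, 7, 5, 7, 5, 3, 7, 5, 7, 5, 3, 7, 5, 7, 5, 3, 7, 5, 7, 5, 3, 7, 5, 7, 5, 3, 9, 7, 5, 3, 1, 7, 5, 7, 9, 7, 5, 7]] (Nat.shiftLeft 1 995) = true := by decide +kernel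

theorem sh357 : sizeOk 11 (U.shrink W262 [0, 0] (U.fixM 11 [8, 6, 8, 10, 8, 6, 8, 2, 4, 6, 8, 10, 7, 5, 7, 5, 3, 7, 5, 7, 5, 3, 7, 5, 7, 5, 3, 7, 5, 7, 5, 3, 7, 5, 7, 5, 3, 9, 7, 5, 3, 1, 7, 5, 7, 9, 7, 5, 7] M12)) 6 = true := by decide +kernel

theorem gr358 : sub M12 (U.growI ([12, 6, 8, 10, 8, 6, 8, 2, 4, 6, 8, 10, 7, 5, 7, 5, 3, 7, 5, 7, 5, 3, 7, 5, 7, 5, 3, 7, 5, 7, 5, 3, 7, 5, 7, 5, 3, 9, 7, 5, 3, 1, 7, 5, 7, 9, 7, 5, 11] :: W262) [0, 1, 2, 2, 1, 0, 0, 1, 2, 2, 1, 0, 0, 1, 2, 2, 1, 0] (Nat.shiftLeft 1 995)) = true := by decide +kernel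

theorem gr360 : sub M12 (U.growI ([12, 4, 6, 8, 10, 6, 8, 2, 4, 6, 8, 10, 7, 5, 7, 5, 3, 7, 5, 7, 5, 3, 7, 5, 7, 5, 3, 7, 5, 7, 5, 3, 7, 5, 7, 5, 3, 9, 7, 5, 3, 1, 7, 5, 9, 7, 5, 3, 11] :: W262) [0, 1, 2, 2, 1, 0, 0, 1, 2, 2, 1, 0, 0, 1, 2, 2, 1, 0] (Nat.shiftLeft 1 995)) = true := by decide +kernel

theorem gr362 : sub M12 (U.growI ([6, 4, 12, 8, 10, 6, 8, 2, 4, 6, 8, 10, 7, 5, 7, 5, 3, 7, 5, 7, 5, 3, 7, 5, 7, 5, 3, 7, 5, 7, 5, 3, 7, 5, 7, 5, 3, 9, 7, 5, 3, 1, 7, 5, 9, 7, 11, 3, 5] :: W262) [0, 1, 2, 2, 1, 0, 0, 1, 2, 2, 1, 0, 0, 1, 2, 2, 1, 0, 1, 2] (Nat.shiftLeft 1 995)) = true := by decide +kernel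

theorem gr364 : sub M12 (U.growI ([6, 8, 6, 4, 12, 10, 8, 2, 4, 6, 8, 10, 7, 5, 7, 5, 3, 7, 5, 7, 5, 3, 7, 5, 7, 5, 3, 7, 5, 7, 5, 3, 7, 5, 7, 5, 3, 9, 7, 5, 3, 1, 7, 9, 11, 3, 5, 7, 5] :: W262) [0, 1, 2, 2, 1, 0, 0, 1, 2, 2, 1, 0, 0, 1, 2, 2, 1] (Nat.shiftLeft 1 995)) = true := by decide +kernel

theorem gr366 : sub M12 (U.growI ([10, 8, 6, 4, 12, 10, 8, 2, 4, 6, 8, 10, 7, 5, 7, 5, 3, 7, 5, 7, 5, 3, 7, 5, 7, 5, 3, 7, 5, 7, 5, 3, 7, 5, 7, 5, 3, 9, 7, 5, 3, 1, 7, 9, 11, 3, 5, 7, 9] :: W262) [0, 1, 2, 2, 1, 0, 0, 1, 2, 2, 1, 0, 0, 1, 2, 2, 1] (Nat.shiftLeft 1 995)) = true := by decide +kernel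

theorem gr368 : sub M12 (U.growI ([12, 4, 6, 8, 10, 8, 6, 8, 4, 6, 8, 10, 7, 5, 7, 5, 3, 7, 5, 7, 5, 3, 7, 5, 7, 5, 3, 7, 5, 7, 5, 3, 7, 5, 7, 5, 3, 9, 7, 5, 3, 7, 5, 7, 9, 7, 5, 3, 11] :: W262) [0, 1, 2, 2, 1, 0, 0, 1, 2, 2, 1, 0, 0, 1, 2, 2, 1, 0] (Nat.shiftLeft 1 995)) = true := by decide +kernel

theorem gr370 : sub M12 (U.growI ([12, 8, 6, 8, 10, 8, 6, 8, 4, 6, 8, 10, 7, 5, 7, 5, 3, 7, 5, 7, 5, 3, 7, 5, 7, 5, 3, 7, 5, 7, 5, 3, 7, 5, 7, 5, 3, 9, 7, 5, 3, 7, 5, 7, 9, 7, 5, 7, 11] :: W262) [0, 1, 2, 2, 1, 0, 0, 1, 2, 2, 1, 0, 0, 1, 2, 2, 1] (Nat.shiftLeft 1 995)) = true := by decide +kernel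

theorem gr372 : sub M12 (U.growI ([12, 2, 4, 6, 8, 10, 6, 8, 4, 6, 8, 10, 7, 5, 7, 5, 3, 7, 5, 7, 5, 3, 7, 5, 7, 5, 3, 7, 5, 7, 5, 3, 7, 5, 7, 5, 3, 9, 7, 5, 3, 7, 5, 9, 7, 5, 3, 1, 11] :: W262) [0, 1, 2, 2, 1, 0, 0, 1, 2, 2, 1, 0, 0, 1, 2, 2, 1, 1] (Nat.shiftLeft 1 995)) = true := by decide +kernel

theorem gr374 : sub M12 (U.growI ([12, 6, 8, 10, 6, 8, 2, 4, 2, 4, 6, 8, 10, 7, 5, 7, 5, 3, 7, 5, 7, 5, 3, 7, 5, 7, 5, 3, 7, 5, 7, 5, 3, 7, 5, 7, 5, 3, 9, 7, 5, 3, 1, 3, 1, 7, 5, 9, 7, 5, 11] :: W262) [0, 1, 2, 2, 1, 0, 0, 1, 2, 2, 1, 0, 0, 1, 2, 2] (Nat.shiftLeft 1 995)) = true := by decide +kernel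

theorem gr376 : sub M12 (U.growI ([12, 6, 8, 10, 4, 6, 8, 4, 2, 4, 6, 8, 10, 7, 5, 7, 5, 3, 7, 5, 7, 5, 3, 7, 5, 7, 5, 3, 7, 5, 7, 5, 3, 7, 5, 7, 5, 3, 9, 7, 5, 3, 1, 3, 7, 5, 3, 9, 7, 5, 11] :: W262) [0, 1, 2, 2, 1, 0, 0, 1, 2, 2, 1, 0, 0, 1, 2, 2, 1, 0] (Nat.shiftLeft 1 995)) = true := by decide +kernel

theorem gr378 : sub M12 (U.growI ([12, 6, 8, 10, 8, 6, 8, 4, 2, 4, 6, 8, 10, 7, 5, 7, 5, 3, 7, 5, 7, 5, 3, 7, 5, 7, 5, 3, 7, 5, 7, 5, 3, 7, 5, 7, 5, 3, 9, 7, 5, 3, 1, 3, 7, 5, 7, 9, 7, 5, 11] :: W262) [0, 1, 2, 2, 1, 0, 0, 1, 2, 2, 1, 0, 0, 1, 2, 2, 1, 1] (Nat.shiftLeft 1 995)) = true := by decide +kernel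

theorem gr380 : sub M12 (U.growI ([6, 4, 12, 8, 10, 6, 8, 4, 2, 4, 6, 8, 10, 7, 5, 7, 5, 3, 7, 5, 7, 5, 3, 7, 5, 7, 5, 3, 7, 5, 7, 5, 3, 7, 5, 7, 5, 3, 9, 7, 5, 3, 1, 3, 7, 5, 9, 7, 11, 3, 5] :: W262) [0, 1, 2, 2, 1, 0, 0, 1, 2, 2, 1, 0, 0, 1, 2, 2, 1, 0] (Nat.shiftLeft 1 995)) = true := by decide +kernel

theorem gr382 : sub M12 (U.growI ([6, 8, 6, 4, 12, 10, 8, 4, 2, 4, 6, 8, 10, 7, 5, 7, 5, 3, 7, 5, 7, 5, 3, 7, 5, 7, 5, 3, 7, 5, 7, 5, 3, 7, 5, 7, 5, 3, 9, 7, 5, 3, 1, 3, 7, 9, 11, 3, 5, 7, 5] :: W262) [0, 1, 2, 2, 1, 0, 0, 1, 2, 2, 1, 0, 0, 1, 2, 2, 1] (Nat.shiftLeft 1 995)) = true := by decide +kernel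

theorem fx384 : U.closedW [[8, 6, 8, 10, 2, 4, 6, 8, 2, 4, 6, 8, 10, 7, 5, 7, 5, 3, 7, 5, 7, 5, 3, 7, 5, 7, 5, 3, 7, 5, 7, 5, 3, 7, 5, 7, 5, 3, 9, 7, 5, 3, 1, 7, 5, 3, 1, 9, 7, 5, 7]] (Nat.shiftLeft 1 995) = true := by decide +kernel

theorem sh385 : sizeOk 11 (U.shrink W262 [0] (U.fixM 11 [8, 6, 8, 10, 2, 4, 6, 8, 2, 4, 6, 8, 10, 7, 5, 7, 5, 3, 7, 5, 7, 5, 3, 7, 5, 7, 5, 3, 7, 5, 7, 5, 3, 7, 5, 7, 5, 3, 9, 7, 5, 3, 1, 7, 5, 3, 1, 9, 7, 5, 7] M12)) 6 = true := by decide +kernel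

theorem gr386 : sub M12 (U.growI ([12, 6, 8, 10, 2, 4, 6, 8, 2, 4, 6, 8, 10, 7, 5, 7, 5, 3, 7, 5, 7, 5, 3, 7, 5, 7, 5, 3, 7, 5, 7, 5, 3, 7, 5, 7, 5, 3, 9, 7, 5, 3, 1, 7, 5, 3, 1, 9, 7, 5, 11] :: W262) [0, 1, 2, 2, 1, 0, 0, 1, 2, 2, 1, 0, 0, 1, 2, 2, 1] (Nat.shiftLeft 1 995)) = true := by decide +kernel

theorem gr388 : sub M12 (U.growI ([12, 8, 6, 8, 10, 4, 6, 8, 2, 4, 6, 8, 10, 7, 5, 7, 5, 3, 7, 5, 7, 5, 3, 7, 5, 7, 5, 3, 7, 5, 7, 5, 3, 7, 5, 7, 5, 3, 9, 7, 5, 3, 1, 7, 5, 3, 9, 7, 5, 7, 11] :: W262) [0, 1, 2, 2, 1, 0, 0, 1, 2, 2, 1, 0, 0, 1, 2, 2, 1, 0] (Nat.shiftLeft 1 995)) = true := by decide +kernel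

theorem gr390 : sub M12 (U.growI ([6, 4, 12, 8, 10, 4, 6, 8, 2, 4, 6, 8, 10, 7, 5, 7, 5, 3, 7, 5, 7, 5, 3, 7, 5, 7, 5, 3, 7, 5, 7, 5, 3, 7, 5, 7, 5, 3, 9, 7, 5, 3, 1, 7, 5, 3, 9, 7, 11, 3, 5] :: W262) [0, 1, 2, 2, 1, 0, 0, 1, 2, 2, 1, 0, 0, 1, 2, 2] (Nat.shiftLeft 1 995)) = true := by decide +kernel

theorem gr392 : sub M12 (U.growI ([8, 6, 4, 12, 10, 4, 6, 8, 2, 4, 6, 8, 10, 7, 5, 7, 5, 3, 7, 5, 7, 5, 3, 7, 5, 7, 5, 3, 7, 5, 7, 5, 3, 7, 5, 7, 5, 3, 9, 7, 5, 3, 1, 7, 5, 3, 9, 11, 3, 5, 7] :: W262) [0, 1, 2, 2, 1, 0, 0, 1, 2, 2, 1, 0, 0, 1, 2, 2, 1] (Nat.shiftLeft 1 995)) = true := by decide +kernel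

theorem gr394 : sub M12 (U.growI ([12, 4, 6, 8, 10, 8, 6, 8, 2, 4, 6, 8, 10, 7, 5, 7, 5, 3, 7, 5, 7, 5, 3, 7, 5, 7, 5, 3, 7, 5, 7, 5, 3, 7, 5, 7, 5, 3, 9, 7, 5, 3, 1, 7, 5, 7, 9, 7, 5, 3, 11] :: W262) [0, 1, 2, 2, 1, 0, 0, 1, 2, 2, 1, 0, 0, 1, 2, 2, 1] (Nat.shiftLeft 1 995)) = true := by decide +kernel

theorem gr396 : sub M12 (U.growI ([12, 8, 6, 8, 10, 8, 6, 8, 2, 4, 6, 8, 10, 7, 5, 7, 5, 3, 7, 5, 7, 5, 3, 7, 5, 7, 5, 3, 7, 5, 7, 5, 3, 7, 5, 7, 5, 3, 9, 7, 5, 3, 1, 7, 5, 7, 9, 7, 5, 7, 11] :: W262) [0, 1, 2, 2, 1, 0, 0, 1, 2, 2, 1, 0, 0, 1, 2, 2, 1] (Nat.shiftLeft 1 995)) = true := by decide +kernel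

theorem gr398 : sub M12 (U.growI ([6, 4, 12, 8, 10, 8, 6, 8, 2, 4, 6, 8, 10, 7, 5, 7, 5, 3, 7, 5, 7, 5, 3, 7, 5, 7, 5, 3, 7, 5, 7, 5, 3, 7, 5, 7, 5, 3, 9, 7, 5, 3, 1, 7, 5, 7, 9, 7, 11, 3, 5] :: W262) [0, 1, 2, 2, 1, 0, 0, 1, 2, 2, 1, 0, 0, 1, 2, 2, 1] (Nat.shiftLeft 1 995)) = true := by decide +kernel

theorem gr400 : sub M12 (U.growI ([8, 6, 4, 12, 8, 10, 6, 8, 2, 4, 6, 8, 10, 7, 5, 7, 5, 3, 7, 5, 7, 5, 3, 7, 5, 7, 5, 3, 7, 5, 7, 5, 3, 7, 5, 7, 5, 3, 9, 7, 5, 3, 1, 7, 5, 9, 7, 11, 3, 5, 7] :: W262) [0, 1, 2, 2, 1, 0, 0, 1, 2, 2, 1, 0, 0, 1, 2, 2, 1] (Nat.shiftLeft 1 995)) = true := by decide +kernel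

theorem gr402 : sub M12 (U.growI ([6, 8, 6, 2, 4, 12, 10, 8, 2, 4, 6, 8, 10, 7, 5, 7, 5, 3, 7, 5, 7, 5, 3, 7, 5, 7, 5, 3, 7, 5, 7, 5, 3, 7, 5, 7, 5, 3, 9, 7, 5, 3, 1, 7, 9, 11, 3, 1, 5, 7, 5] :: W262) [0, 1, 2, 2, 1, 0, 0, 1, 2, 2, 1, 0, 0, 1, 2, 2] (Nat.shiftLeft 1 995)) = true := by decide +kernel

theorem gr404 : sub M12 (U.growI ([10, 6, 8, 6, 4, 12, 10, 8, 2, 4, 6, 8, 10, 7, 5, 7, 5, 3, 7, 5, 7, 5, 3, 7, 5, 7, 5, 3, 7, 5, 7, 5, 3, 7, 5, 7, 5, 3, 9, 7, 5, 3, 1, 7, 9, 11, 3, 5, 7, 5, 9] :: W262) [0, 1, 2, 2, 1, 0, 0, 1, 2, 2, 1, 0, 0, 1, 2, 2, 1] (Nat.shiftLeft 1 995)) = true := by decide +kernel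

theorem gr406 : sub M12 (U.growI ([6, 8, 10, 6, 8, 6, 4, 12, 2, 4, 6, 8, 10, 7, 5, 7, 5, 3, 7, 5, 7, 5, 3, 7, 5, 7, 5, 3, 7, 5, 7, 5, 3, 7, 5, 7, 5, 3, 9, 7, 5, 3, 1, 11, 3, 5, 7, 5, 9, 7, 5] :: W262) [0, 1, 2, 2, 1, 0, 0, 1, 2, 2, 1, 0, 0, 1, 2, 2, 1, 0] (Nat.shiftLeft 1 995)) = true := by decide +kernel

theorem gr408 : sub M12 (U.growI ([12, 6, 8, 10, 8, 6, 8, 2, 4, 2, 4, 6, 8, 10, 7, 5, 7, 5, 3, 7, 5, 7, 5, 3, 7, 5, 7, 5, 3, 7, 5, 7, 5, 3, 7, 5, 7, 5, 3, 9, 7, 5, 3, 1, 3, 1, 7, 5, 7, 9, 7, 5, 11] :: W262) [0, 1, 2, 2, 1, 0, 0, 1, 2, 2, 1, 0, 0, 1, 2, 2] (Nat.shiftLeft 1 995)) = true := by decide +kernel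

theorem gr410 : sub M12 (U.growI ([12, 4, 6, 8, 10, 6, 8, 2, 4, 2, 4, 6, 8, 10, 7, 5, 7, 5, 3, 7, 5, 7, 5, 3, 7, 5, 7, 5, 3, 7, 5, 7, 5, 3, 7, 5, 7, 5, 3, 9, 7, 5, 3, 1, 3, 1, 7, 5, 9, 7, 5, 3, 11] :: W262) [0, 1, 2, 2, 1, 0, 0, 1, 2, 2, 1, 0, 0, 1, 2, 2, 1, 0, 1] (Nat.shiftLeft 1 995)) = true := by decide +kernel

theorem gr412 : sub M12 (U.growI ([6, 4, 12, 8, 10, 4, 6, 8, 4, 2, 4, 6, 8, 10, 7, 5, 7, 5, 3, 7, 5, 7, 5, 3, 7, 5, 7, 5, 3, 7, 5, 7, 5, 3, 7, 5, 7, 5, 3, 9, 7, 5, 3, 1, 3, 7, 5, 3, 9, 7, 11, 3, 5] :: W262) [0, 1, 2, 2, 1, 0, 0, 1, 2, 2, 1, 0, 0, 1, 2, 2, 1] (Nat.shiftLeft 1 995)) = true := by decide +kernel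

theorem gr414 : sub M12 (U.growI ([6, 4, 12, 6, 8, 10, 6, 8, 4, 2, 4, 6, 8, 10, 7, 5, 7, 5, 3, 7, 5, 7, 5, 3, 7, 5, 7, 5, 3, 7, 5, 7, 5, 3, 7, 5, 7, 5, 3, 9, 7, 5, 3, 1, 3, 7, 5, 9, 7, 5, 11, 3, 5] :: W262) [0, 1, 2, 2, 1, 0, 0, 1, 2, 2, 1, 0, 0, 1, 2, 2, 1] (Nat.shiftLeft 1 995)) = true := by decide +kernel

theorem gr416 : sub M12 (U.growI ([8, 6, 4, 12, 8, 10, 6, 8, 4, 2, 4, 6, 8, 10, 7, 5, 7, 5, 3, 7, 5, 7, 5, 3, 7, 5, 7, 5, 3, 7, 5, 7, 5, 3, 7, 5, 7, 5, 3, 9, 7, 5, 3, 1, 3, 7, 5, 9, 7, 11, 3, 5, 7] :: W262) [0, 1, 2, 2, 1, 0, 0, 1, 2, 2, 1, 0, 0, 1, 2, 2, 1, 0] (Nat.shiftLeft 1 995)) = true := by decide +kernel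

theorem gr418 : sub M12 (U.growI ([6, 8, 6, 4, 12, 10, 6, 8, 4, 2, 4, 6, 8, 10, 7, 5, 7, 5, 3, 7, 5, 7, 5, 3, 7, 5, 7, 5, 3, 7, 5, 7, 5, 3, 7, 5, 7, 5, 3, 9, 7, 5, 3, 1, 3, 7, 5, 9, 11, 3, 5, 7, 5] :: W262) [0, 1, 2, 2, 1, 0, 0, 1, 2, 2, 1, 0, 0, 1, 2, 2, 1, 0, 1] (Nat.shiftLeft 1 995)) = true := by decide +kernel

theorem gr420 : sub M12 (U.growI ([12, 8, 6, 8, 10, 8, 4, 6, 8, 2, 4, 6, 8, 10, 7, 5, 7, 5, 3, 7, 5, 7, 5, 3, 7, 5, 7, 5, 3, 7, 5, 7, 5, 3, 7, 5, 7, 5, 3, 9, 7, 5, 3, 1, 7, 5, 3, 7, 9, 7, 5, 7, 11] :: W262) [0, 1, 2, 2, 1, 0, 0, 1, 2, 2, 1, 0, 0, 1, 2, 2, 1, 0] (Nat.shiftLeft 1 995)) = true := by decide +kernel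

theorem gr422 : sub M12 (U.growI ([6, 4, 12, 8, 10, 8, 4, 6, 8, 2, 4, 6, 8, 10, 7, 5, 7, 5, 3, 7, 5, 7, 5, 3, 7, 5, 7, 5, 3, 7, 5, 7, 5, 3, 7, 5, 7, 5, 3, 9, 7, 5, 3, 1, 7, 5, 3, 7, 9, 7, 11, 3, 5] :: W262) [0, 1, 2, 2, 1, 0, 0, 1, 2, 2, 1, 0, 0, 1, 2, 2, 1] (Nat.shiftLeft 1 995)) = true := by decide +kernel

theorem gr424 : sub M12 (U.growI ([6, 4, 12, 6, 8, 10, 4, 6, 8, 2, 4, 6, 8, 10, 7, 5, 7, 5, 3, 7, 5, 7, 5, 3, 7, 5, 7, 5, 3, 7, 5, 7, 5, 3, 7, 5, 7, 5, 3, 9, 7, 5, 3, 1, 7, 5, 3, 9, 7, 5, 11, 3, 5] :: W262) [0, 1, 2, 2, 1, 0, 0, 1, 2, 2, 1, 0, 0, 1, 2, 2, 1, 0] (Nat.shiftLeft 1 995)) = true := by decide +kernel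

theorem gr426 : sub M12 (U.growI ([10, 8, 6, 4, 12, 10, 4, 6, 8, 2, 4, 6, 8, 10, 7, 5, 7, 5, 3, 7, 5, 7, 5, 3, 7, 5, 7, 5, 3, 7, 5, 7, 5, 3, 7, 5, 7, 5, 3, 9, 7, 5, 3, 1, 7, 5, 3, 9, 11, 3, 5, 7, 9] :: W262) [0, 1, 2, 2, 1, 0, 0, 1, 2, 2, 1, 0, 0, 1, 2, 2, 1] (Nat.shiftLeft 1 995)) = true := by decide +kernel

theorem gr428 : sub M12 (U.growI ([8, 6, 4, 12, 8, 10, 8, 6, 8, 2, 4, 6, 8, 10, 7, 5, 7, 5, 3, 7, 5, 7, 5, 3, 7, 5, 7, 5, 3, 7, 5, 7, 5, 3, 7, 5, 7, 5, 3, 9, 7, 5, 3, 1, 7, 5, 7, 9, 7, 11, 3, 5, 7] :: W262) [0, 1, 2, 2, 1, 0, 0, 1, 2, 2, 1, 0, 0, 1, 2, 2, 1] (Nat.shiftLeft 1 995)) = true := by decide +kernel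

theorem gr430 : sub M12 (U.growI ([6, 8, 6, 4, 12, 10, 8, 6, 8, 2, 4, 6, 8, 10, 7, 5, 7, 5, 3, 7, 5, 7, 5, 3, 7, 5, 7, 5, 3, 7, 5, 7, 5, 3, 7, 5, 7, 5, 3, 9, 7, 5, 3, 1, 7, 5, 7, 9, 11, 3, 5, 7, 5] :: W262) [0, 1, 2, 2, 1, 0, 0, 1, 2, 2, 1, 0, 0, 1, 2, 2, 1] (Nat.shiftLeft 1 995)) = true := by decide +kernel

theorem gr432 : sub M12 (U.growI ([12, 4, 6, 8, 6, 4, 12, 10, 8, 2, 4, 6, 8, 10, 7, 5, 7, 5, 3, 7, 5, 7, 5, 3, 7, 5, 7, 5, 3, 7, 5, 7, 5, 3, 7, 5, 7, 5, 3, 9, 7, 5, 3, 1, 7, 9, 11, 3, 5, 7, 5, 3, 11] :: W262) [0, 1, 2, 2, 1, 0, 0, 1, 2, 2, 1, 0, 0, 1, 2, 2, 1] (Nat.shiftLeft 1 995)) = true := by decide +kernel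

theorem gr434 : sub M12 (U.growI ([12, 2, 4, 6, 8, 10, 6, 8, 2, 4, 2, 4, 6, 8, 10, 7, 5, 7, 5, 3, 7, 5, 7, 5, 3, 7, 5, 7, 5, 3, 7, 5, 7, 5, 3, 7, 5, 7, 5, 3, 9, 7, 5, 3, 1, 3, 1, 7, 5, 9, 7, 5, 3, 1, 11] :: W262) [0, 1, 2, 2, 1, 0, 0, 1, 2, 2, 1, 0, 0, 1, 2, 2, 1] (Nat.shiftLeft 1 995)) = true := by decide +kernel

theorem gr436 : sub M12 (U.growI ([8, 6, 4, 12, 8, 10, 4, 6, 8, 4, 2, 4, 6, 8, 10, 7, 5, 7, 5, 3, 7, 5, 7, 5, 3, 7, 5, 7, 5, 3, 7, 5, 7, 5, 3, 7, 5, 7, 5, 3, 9, 7, 5, 3, 1, 3, 7, 5, 3, 9, 7, 11, 3, 5, 7] :: W262) [0, 1, 2, 2, 1, 0, 0, 1, 2, 2, 1, 0, 0, 1, 2, 2, 1] (Nat.shiftLeft 1 995)) = true := by decide +kernel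

theorem gr438 : sub M12 (U.growI ([8, 6, 4, 12, 6, 8, 10, 6, 8, 4, 2, 4, 6, 8, 10, 7, 5, 7, 5, 3, 7, 5, 7, 5, 3, 7, 5, 7, 5, 3, 7, 5, 7, 5, 3, 7, 5, 7, 5, 3, 9, 7, 5, 3, 1, 3, 7, 5, 9, 7, 5, 11, 3, 5, 7] :: W262) [0, 1, 2, 2, 1, 0, 0, 1, 2, 2, 1, 0, 0, 1, 2, 2, 1] (Nat.shiftLeft 1 995)) = true := by decide +kernel

theorem gr440 : sub M12 (U.growI ([8, 10, 6, 8, 6, 4, 12, 10, 8, 4, 2, 4, 6, 8, 10, 7, 5, 7, 5, 3, 7, 5, 7, 5, 3, 7, 5, 7, 5, 3, 7, 5, 7, 5, 3, 7, 5, 7, 5, 3, 9, 7, 5, 3, 1, 3, 7, 9, 11, 3, 5, 7, 5, 9, 7] :: W262) [0, 1, 2, 2, 1, 0, 0, 1, 2, 2, 1, 0, 0, 1, 2, 2, 1, 0, 1] (Nat.shiftLeft 1 995)) = true := by decide +kernel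

theorem gr442 : sub M12 (U.growI ([12, 8, 6, 8, 10, 8, 2, 4, 6, 8, 2, 4, 6, 8, 10, 7, 5, 7, 5, 3, 7, 5, 7, 5, 3, 7, 5, 7, 5, 3, 7, 5, 7, 5, 3, 7, 5, 7, 5, 3, 9, 7, 5, 3, 1, 7, 5, 3, 1, 7, 9, 7, 5, 7, 11] :: W262) [0, 1, 2, 2, 1, 0, 0, 1, 2, 2, 1, 0, 0, 1, 2, 2, 1] (Nat.shiftLeft 1 995)) = true := by decide +kernel

theorem gr444 : sub M12 (U.growI ([10, 8, 6, 4, 12, 8, 10, 8, 6, 8, 2, 4, 6, 8, 10, 7, 5, 7, 5, 3, 7, 5, 7, 5, 3, 7, 5, 7, 5, 3, 7, 5, 7, 5, 3, 7, 5, 7, 5, 3, 9, 7, 5, 3, 1, 7, 5, 7, 9, 7, 11, 3, 5, 7, 9] :: W262) [0, 1, 2, 2, 1, 0, 0, 1, 2, 2, 1, 0, 0, 1, 2, 2, 1, 0] (Nat.shiftLeft 1 995)) = true := by decide +kernel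

theorem gr446 : sub M12 (U.growI ([6, 8, 10, 6, 8, 6, 4, 12, 10, 8, 2, 4, 6, 8, 10, 7, 5, 7, 5, 3, 7, 5, 7, 5, 3, 7, 5, 7, 5, 3, 7, 5, 7, 5, 3, 7, 5, 7, 5, 3, 9, 7, 5, 3, 1, 7, 9, 11, 3, 5, 7, 5, 9, 7, 5] :: W262) [0, 1, 2, 2, 1, 0, 0, 1, 2, 2, 1, 0, 0, 1, 2, 2, 1, 0] (Nat.shiftLeft 1 995)) = true := by decide +kernel

theorem gr448 : sub M12 (U.growI ([10, 8, 6, 4, 12, 8, 10, 4, 6, 8, 4, 2, 4, 6, 8, 10, 7, 5, 7, 5, 3, 7, 5, 7, 5, 3, 7, 5, 7, 5, 3, 7, 5, 7, 5, 3, 7, 5, 7, 5, 3, 9, 7, 5, 3, 1, 3, 7, 5, 3, 9, 7, 11, 3, 5, 7, 9] :: W262) [0, 1, 2, 2, 1, 0, 0, 1, 2, 2, 1, 0, 0, 1, 2, 2, 1] (Nat.shiftLeft 1 995)) = true := by decide +kernel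

theorem fix7 : sizeOk 11 (U.fixM 11 [11, 9, 7, 5, 3, 1, 11, 9, 7, 5, 3, 1, 11, 9, 7, 5, 3, 1] M12) 3 = true := by decide +kernel

theorem fix5 : Nat.beq (U.fixM 11 [3, 1] M12) (Nat.shiftLeft 1 995) = true := by decide +kernel

theorem fx450 : U.closedW W262 (Nat.shiftLeft 1 995) = true := by decide +kernel

theorem uok9 : Net.okb 11 un9 = true := by decide +kernel

theorem rel451 : U.rel 11 [19, 3, 1, 3, 11, 1, 3, 5, 3, 1, 11, 3, 1, 3] 0 11 = true := by decide +kernel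

theorem uok10 : Net.okb 11 un10 = true := by decide +kernel

theorem rel452 : U.rel 11 [21, 3, 1, 3, 11, 9, 7, 5, 7, 3, 1, 3, 5, 7, 9, 7, 5, 7, 5, 3, 1, 3, 5, 7, 9, 11, 3, 1, 3] 0 11 = true := by decide +kernel

theorem rel454 : U.rel 11 [19, 19] 0 11 = true := by decide +kernel

theorem rel455 : U.rel 11 [21, 21] 0 11 = true := by decide +kernel

theorem uok11 : Net.okb 11 un11 = true := by decide +kernel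

theorem rel456 : U.rel 11 [23, 21, 7, 21, 19, 7] 0 11 = true := by decide +kernel

theorem uok12 : Net.okb 11 un12 = true := by decide +kernel

theorem rel457 : U.rel 11 [25, 21, 19, 7, 21, 7] 0 11 = true := by decide +kernel

theorem uok13 : Net.okb 11 un13 = true := by decide +kernel

theorem rel458 : U.rel 11 [27, 7, 5, 21, 5, 21, 7] 0 11 = true := by decide +kernel

theorem uok14 : Net.okb 11 un14 = true := by decide +kernel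

theorem rel459 : U.rel 11 [29, 7, 5, 7, 21, 5, 21] 0 11 = true := by decide +kernel

theorem rel460 : U.rel 11 [25, 27, 26, 28] 0 11 = true := by decide +kernel

theorem rel461 : U.rel 11 [27, 29, 27, 30] 0 11 = true := by decide +kernel

theorem rel462 : U.rel 11 [27, 27, 29, 29] 0 11 = true := by decide +kernel

theorem rel463 : U.rel 11 [25, 29, 25, 29] 0 11 = true := by decide +kernel

theorem rel464 : U.rel 11 [23, 23, 25, 25] 0 11 = true := by decide +kernel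

theorem rel465 : U.rel 11 [23, 25, 23, 26] 0 11 = true := by decide +kernel

theorem rel466 : U.rel 11 [23, 27, 23, 27] 0 11 = true := by decide +kernel

theorem rel467 : U.rel 11 [23, 29, 23, 29] 0 11 = true := by decide +kernel

theorem rel468 : U.rel 11 [19, 23, 19, 24] 0 11 = true := by decide +kernel

theorem rel469 : U.rel 11 [19, 27, 19, 28] 0 11 = true := by decide +kernel

theorem rel470 : U.rel 11 [19, 25, 19, 26] 0 11 = true := by decide +kernel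

theorem rel471 : U.rel 11 [19, 29, 19, 30] 0 11 = true := by decide +kernel

theorem rel472 : U.rel 11 [5, 23, 5, 24] 0 11 = true := by decide +kernel

theorem rel473 : U.rel 11 [5, 27, 5, 28] 0 11 = true := by decide +kernel

theorem rel474 : U.rel 11 [5, 19, 5, 19] 0 11 = true := by decide +kernel

theorem rel475 : U.rel 11 [5, 25, 5, 26] 0 11 = true := by decide +kernel

theorem rel476 : U.rel 11 [5, 29, 5, 30] 0 11 = true := by decide +kernel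

theorem rel477 : U.rel 11 [7, 21, 19, 7, 21, 25, 24, 19] 0 11 = true := by decide +kernel

theorem sz479 : sizeOk 11 (Nat.shiftLeft 1 995) 1 = true := by decide +kernel

theorem gr481 : sub M480 (U.growI W25 [0, 1, 2, 3, 4, 3, 2, 1, 0, 1, 3, 4, 2, 1] (Nat.shiftLeft 1 47)) = true := by decide +kernel

theorem sz483 : sizeOk 11 M480 100 = true := by decide +kernel

theorem gr485 : sub M484 (U.growI W25 [0, 1, 2, 3, 4, 3, 2, 1, 0, 1, 2, 3, 4, 2, 1, 0, 1, 2] (Nat.shiftLeft 1 81)) = true := by decide +kernel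

theorem sz487 : sizeOk 11 M484 315 = true := by decide +kernel

theorem gr489 : sub M488 (U.growI W453 [0, 1, 2, 3, 2, 1, 0, 1] (Nat.shiftLeft 1 130)) = true := by decide +kernel

theorem sz491 : sizeOk 11 M488 32 = true := by decide +kernel

theorem gr493 : sub M492 (U.growI W453 [0, 1, 2, 3, 2, 1, 0, 1, 3, 0] (Nat.shiftLeft 1 202)) = true := by decide +kernel

theorem sz495 : sizeOk 11 M492 32 = true := by decide +kernel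

theorem gr497 : sub M496 (U.growI W453 [0, 2, 3, 2, 1, 2, 3, 2] (Nat.shiftLeft 1 228)) = true := by decide +kernel

theorem sz499 : sizeOk 11 M496 32 = true := by decide +kernel

theorem gr501 : sub M500 (U.growI W453 [0, 1, 2, 3, 2, 1, 0, 1, 2, 3] (Nat.shiftLeft 1 115)) = true := by decide +kernel

theorem sz503 : sizeOk 11 M500 64 = true := by decide +kernel

theorem gr505 : sub M504 (U.growI W453 [1, 2, 3, 2, 1, 0, 1, 2, 3, 2, 1, 0, 1, 2] (Nat.shiftLeft 1 47)) = true := by decide +kernel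

theorem sz507 : sizeOk 11 M504 256 = true := by decide +kernel

theorem ct518 : wt510.cnt U GZ M12 M508 PL511 = true := by decide +kernel

theorem ct530 : wt522.cnt U GZ M12 M520 PL523 = true := by decide +kernel

theorem ct542 : wt534.cnt U GZ M12 M532 PL535 = true := by decide +kernel

theorem ct553 : wt546.cnt U GZ M12 M544 PL547 = true := by decide +kernel

theorem pt555 : Nat.beq (patM (ones 1782) (Nat.shiftLeft 1 0 :: PL547) [11, 1]) (Nat.shiftLeft 1 1) = true := by decide +kernel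

end Cfsg.Agent.Spor.Suz1782.R
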