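import Cfsg.Agent.Spor.Prim
import Cfsg.Agent.Spor.Suz1782.Main
import Cfsg.Agent.Spor.Suz1782.R.C0
import Cfsg.Agent.Spor.R3E
import Cfsg.Agent.Spor.G2080.X.Main
import Cfsg.Agent.Spor.G1365.Grp
import Cfsg.Agent.Spor.MatG
import Cfsg.Agent.Spor.P25.Main
import Cfsg.Agent.Spor.SzUa.Main
import Cfsg.Agent.Spor.SzUb.Main

set_option autoImplicit false
set_option maxRecDepth 100000000
set_option Elab.async false

namespace Cfsg.Agent.Spor.Suz1782.R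

theorem hU : U.Ok 11 := U.ok_of 11 (show AllP (fun n => Net.okb 11 n = true) [n0, n1, n2, n3, n4, n5, n6, un7, un8, un9, un10, un11, un12, un13, un14] from AllP.cons ok0 (AllP.cons ok1 (AllP.cons ok2 (AllP.cons ok3 (AllP.cons ok4 (AllP.cons ok5 (AllP.cons ok6 (AllP.cons uok7 (AllP.cons uok8 (AllP.cons uok9 (AllP.cons uok10 (AllP.cons uok11 (AllP.cons uok12 (AllP.cons uok13 (AllP.cons uok14 (AllP.nil))))))))))))))))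

theorem hfP : ∀ j < 7, U.fP [1, 3, 5, 7, 9, 11, 13] j = fP j := by
  intro j hj
  interval_cases j <;> rfl
theorem eG : gsub 7 fP = U.lsub W1 := (gsub_congr hfP).symm.trans (lsub_eq_gsub U [1, 3, 5, 7, 9, 11, 13])
theorem upz1 : ev (atm 7 fP) [0] = U.τ 1 := pz1
theorem upz3 : ev (atm 7 fP) [2] = U.τ 3 := pz2
theorem upz5 : ev (atm 7 fP) [4] = U.τ 5 := pz3
theorem upz7 : ev (atm 7 fP) [6] = U.τ 7 := pz4
theorem upz9 : ev (atm 7 fP) [8] = U.τ 9 := pz5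
theorem upz11 : ev (atm 7 fP) [10] = U.τ 11 := pz6
theorem upz13 : ev (atm 7 fP) [12] = U.τ 13 := pz7
theorem eH : wsub 7 fP BW = U.lsub W2 :=
  lsub_eq_of_all₂ (show List.Forall₂ _ [[0], [2], [4], [6], [8], [10]] [[1], [3], [5], [7], [9], [11]] from List.Forall₂.cons (upz1.trans (one_mul _).symm) (List.Forall₂.cons (upz3.trans (one_mul _).symm) (List.Forall₂.cons (upz5.trans (one_mul _).symm) (List.Forall₂.cons (upz7.trans (one_mul _).symm) (List.Forall₂.cons (upz9.trans (one_mul _).symm) (List.Forall₂.cons (upz11.trans (one_mul _).symm) (List.Forall₂.nil)))))))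
theorem hfix : gsub 7 fP ≤ FixFrom 1782 := (gsub_congr hfP).symm.le.trans (hU.gsub_fix (gs := [1, 3, 5, 7, 9, 11, 13]) (AllP.cons ff3 (AllP.cons ff4 (AllP.cons ff5 (AllP.cons ff6 (AllP.cons ff7 (AllP.cons ff8 (AllP.cons ff9 (AllP.nil)))))))))
theorem st : StL (U.lsub W1) [0] = (U.lsub W2) := by
  have := cert.self.stL
  rwa [(Subgroup.range_subtype _).trans eG, (map_wsub_lift fP BW).trans eH] at this
theorem reach11 : Reach (U.lsub W1) 0 (ones 1782) := (Reach.grow hU (Reach.base _ 0) gr10)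
theorem reach14 : Reach (U.lsub W2) 995 M12 := (Reach.grow hU (Reach.base _ 995) gr13)
theorem orb17 : (orbS (U.lsub W2) 995).ncard = 416 := reach14.ncard hU cl15 sz16
theorem orb17e : orbS (U.lsub W2) 995 = {c | Nat.testBit M12 c = true} := reach14.orb hU cl15
theorem reach20 : Reach (U.lsub W2) 1 M18 := (Reach.grow hU (Reach.base _ 1) gr19)
theorem orb23 : (orbS (U.lsub W2) 1).ncard = 1365 := reach20.ncard hU cl21 sz22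
theorem orb23e : orbS (U.lsub W2) 1 = {c | Nat.testBit M18 c = true} := reach20.orb hU cl21
theorem rk : Rk3 (U.lsub W1) 1782 995 1 416 1365 :=
  ⟨eG ▸ hfix, fun p hp => reach11 p (by rw [tb_ones]; exact decide_eq_true hp), by decide, by decide,
    st ▸ orb17, st ▸ orb23, by decide, by decide, by decide, by decide⟩
abbrev r : ℕ → ℕ → Prop := Adj (U.lsub W1) 995
theorem hG : ∀ z ∈ GZ, U.τ z ∈ AutG r 1782 := Tab.gz (le_autG rk.fix 995) (by decide +kernel)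
theorem hH : ∀ z ∈ HZ, U.τ z ∈ (U.lsub W2) := Tab.gz le_rfl (by decide +kernel)
theorem hA : (U.lsub W2) ≤ AutG r 1782 := st.ge.trans ((StL_le _ _).trans (le_autG rk.fix 995))
theorem row0 : IsRow r 0 M12 := fun q => adj_zero.trans (by rw [st, orb17e]; rfl)
theorem leb : U.lsub W25 ≤ StL (U.lsub W2) [995] := hU.le_stL hH le24
theorem lec : U.lsub W27 ≤ StL (U.lsub W2) [1] := hU.le_stL hH le26
theorem reach28 : Reach (U.lsub W25) 0 (Nat.shiftLeft 1 0) := (Reach.base _ 0)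
theorem reach30 : Reach (U.lsub W25) 995 (Nat.shiftLeft 1 995) := (Reach.base _ 995)
theorem reach34 : Reach (U.lsub W25) 47 M32 := (Reach.grow hU (Reach.base _ 47) gr33)
theorem reach38 : Reach (U.lsub W25) 1 M36 := (Reach.grow hU (Reach.base _ 1) gr37)
theorem reach42 : Reach (U.lsub W25) 81 M40 := (Reach.grow hU (Reach.base _ 81) gr41)
theorem reach46 : Reach (U.lsub W25) 21 M44 := (Reach.grow hU (Reach.base _ 21) gr45)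
noncomputable def Xb : List Cell := [(0, (Nat.shiftLeft 1 0), 1), (995, (Nat.shiftLeft 1 995), 1), (47, M32, 100), (1, M36, 315), (81, M40, 315), (21, M44, 1050)]
theorem Xbk : AllP (CellOk (U.lsub W25) 11) Xb :=
  show AllP _ [(0, (Nat.shiftLeft 1 0), 1), (995, (Nat.shiftLeft 1 995), 1), (47, M32, 100), (1, M36, 315), (81, M40, 315), (21, M44, 1050)] from AllP.cons ⟨reach28, sz29⟩ (AllP.cons ⟨reach30, sz31⟩ (AllP.cons ⟨reach34, sz35⟩ (AllP.cons ⟨reach38, sz39⟩ (AllP.cons ⟨reach42, sz43⟩ (AllP.cons ⟨reach46, sz47⟩ (AllP.nil))))))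
theorem Xbp : partOk (ones 1782) Xb 0 = true := by decide +kernel
theorem reach48 : Reach (U.lsub W27) 0 (Nat.shiftLeft 1 0) := (Reach.base _ 0)
theorem reach50 : Reach (U.lsub W27) 1 (Nat.shiftLeft 1 1) := (Reach.base _ 1)
theorem reach54 : Reach (U.lsub W27) 16 M52 := (Reach.grow hU (Reach.base _ 16) gr53)
theorem reach58 : Reach (U.lsub W27) 130 M56 := (Reach.grow hU (Reach.base _ 130) gr57)
theorem reach62 : Reach (U.lsub W27) 25 M60 := (Reach.grow hU (Reach.base _ 25) gr61)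
theorem reach66 : Reach (U.lsub W27) 47 M64 := (Reach.grow hU (Reach.base _ 47) gr65)
theorem reach70 : Reach (U.lsub W27) 2 M68 := (Reach.grow hU (Reach.base _ 2) gr69)
noncomputable def Xc : List Cell := [(0, (Nat.shiftLeft 1 0), 1), (1, (Nat.shiftLeft 1 1), 1), (16, M52, 20), (130, M56, 96), (25, M60, 320), (47, M64, 320), (2, M68, 1024)]
theorem Xck : AllP (CellOk (U.lsub W27) 11) Xc :=
  show AllP _ [(0, (Nat.shiftLeft 1 0), 1), (1, (Nat.shiftLeft 1 1), 1), (16, M52, 20), (130, M56, 96), (25, M60, 320), (47, M64, 320), (2, M68, 1024)] from AllP.cons ⟨reach48, sz49⟩ (AllP.cons ⟨reach50, sz51⟩ (AllP.cons ⟨reach54, sz55⟩ (AllP.cons ⟨reach58, sz59⟩ (AllP.cons ⟨reach62, sz63⟩ (AllP.cons ⟨reach66, sz67⟩ (AllP.cons ⟨reach70, sz71⟩ (AllP.nil)))))))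
theorem Xcp : partOk (ones 1782) Xc 0 = true := by decide +kernel
theorem row995 : IsRow r 995 M76 := row0.word hU hG rw77
theorem row1 : IsRow r 1 M78 := row0.word hU hG rw79
set_option synthInstance.maxSize 100000 in
set_option synthInstance.maxHeartbeats 0 in
theorem key : ∀ x0 x1 x2 x3 x4 x5 : Fin 2,  416 = 1 * x0.1 + (1 * x1.1 + (100 * x2.1 + (315 * x3.1 + (315 * x4.1 + (1050 * x5.1 + (0)))))) → x0.1 = 1 → x1.1 = 0 →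
    ∀ y0 y1 y2 y3 y4 y5 y6 : Fin 2,  y0.1 = 0 → y1.1 = 0 → x3.1 = y3.1 → x5.1 = y5.1 →  416 = 1 * y0.1 + (1 * y1.1 + (20 * y2.1 + (96 * y3.1 + (320 * y4.1 + (320 * y5.1 + (1024 * y6.1 + (0))))))) →
    x0.1 = 1 ∧ x1.1 = 0 ∧ x2.1 = 1 ∧ x3.1 = 1 ∧ x4.1 = 0 ∧ x5.1 = 0 ∧ y0.1 = 0 ∧ y1.1 = 0 ∧ y2.1 = 0 ∧ y3.1 = 1 ∧ y4.1 = 1 ∧ y5.1 = 0 ∧ y6.1 = 0 := by decide +kernel
theorem graph {G : Subgroup (Equiv.Perm ℕ)} (h : Rk3 G 1782 995 1 416 1365) (e' : StL G [0] = StL (U.lsub W1) [0]) :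
    G ≤ AutG r 1782 := by
  have e := e'.trans st
  have e1 := (h.val h.hb).symm.trans (ncard_cells Xbk Xbp (Rk3.inv e leb) (h.tb _))
  have e2 := (h.val h.hc).symm.trans (ncard_cells Xck Xcp (Rk3.inv e lec) (h.tb _))
  obtain ⟨i1, i2, i3, i4⟩ := h.ind0
  obtain ⟨x0, x1, x2, x3, x4, x5, y0, y1, y2, y3, y4, y5, y6⟩ := key ⟨ind {q | Adj G 995 995 q} 0, Nat.lt_succ_of_le (ind_le _ _)⟩ ⟨ind {q | Adj G 995 995 q} 995, Nat.lt_succ_of_le (ind_le _ _)⟩ ⟨ind {q | Adj G 995 995 q} 47, Nat.lt_succ_of_le (ind_le _ _)⟩ ⟨ind {q | Adj G 995 995 q} 1, Nat.lt_succ_of_le (ind_le _ _)⟩ ⟨ind {q | Adj G 995 995 q} 81, Nat.lt_succ_of_le (ind_le _ _)⟩ ⟨ind {q | Adj G 995 995 q} 21, Nat.lt_succ_of_le (ind_le _ _)⟩ e1 i1 i2 ⟨ind {q | Adj G 995 1 q} 0, Nat.lt_succ_of_le (ind_le _ _)⟩ ⟨ind {q | Adj G 995 1 q} 1, Nat.lt_succ_of_le (ind_le _ _)⟩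 ⟨ind {q | Adj G 995 1 q} 16, Nat.lt_succ_of_le (ind_le _ _)⟩ ⟨ind {q | Adj G 995 1 q} 130, Nat.lt_succ_of_le (ind_le _ _)⟩ ⟨ind {q | Adj G 995 1 q} 25, Nat.lt_succ_of_le (ind_le _ _)⟩ ⟨ind {q | Adj G 995 1 q} 47, Nat.lt_succ_of_le (ind_le _ _)⟩ ⟨ind {q | Adj G 995 1 q} 2, Nat.lt_succ_of_le (ind_le _ _)⟩ i3 i4
    (ind_congr (S := {q | Adj G 995 995 q}) (S' := {q | Adj G 995 1 q}) (q := 1) (q' := 130) (h.link (e.ge (Tab.evA_mem_gz (w := [3, 1, 5, 3, 1, 3, 7, 5, 3, 11, 7, 5, 3, 3, 1, 5, 3, 1, 3, 7, 5, 3, 11, 7, 5, 3, 3, 1, 11, 3, 1, 3]) hH (by decide +kernel))) (hU.sends sd72) (hU.sends sd73)))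
    (ind_congr (S := {q | Adj G 995 995 q}) (S' := {q | Adj G 995 1 q}) (q := 21) (q' := 47) (h.link (e.ge (Tab.evA_mem_gz (w := [11, 3, 5, 1, 3, 1, 3, 1, 5, 3, 1, 3, 7, 5, 3, 11, 7, 5, 3]) hH (by decide +kernel))) (hU.sends sd74) (hU.sends sd75))) e2
  exact h.le_aut rk e' (fun q => (eq_of_cells Xbk Xbp (Rk3.inv e leb) (h.tb _) (R := M76)
    ⟨Or.inl ⟨x0, by decide +kernel⟩, Or.inr ⟨x1, by decide +kernel⟩, Or.inl ⟨x2, by decide +kernel⟩, Or.inl ⟨x3, by decide +kernel⟩, Or.inr ⟨x4, by decide +kernel⟩, Or.inr ⟨x5, by decide +kernel⟩, trivial⟩ (by decide +kernel) q).trans (row995 q).symm)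
    fun q => (eq_of_cells Xck Xcp (Rk3.inv e lec) (h.tb _) (R := M78)
    ⟨Or.inr ⟨y0, by decide +kernel⟩, Or.inr ⟨y1, by decide +kernel⟩, Or.inr ⟨y2, by decide +kernel⟩, Or.inl ⟨y3, by decide +kernel⟩, Or.inl ⟨y4, by decide +kernel⟩, Or.inr ⟨y5, by decide +kernel⟩, Or.inr ⟨y6, by decide +kernel⟩, trivial⟩ (by decide +kernel) q).trans (row1 q).symm
theorem iv83 : AllP (InvM (StL (AutG r 1782) [0])) ML82 := AllP.cons (invM_base _ _ _) (AllP.cons (row0.base _) (AllP.up (show AllP (InvM (StL (AutG r 1782) [])) [] from AllP.nil) _))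
theorem iv88 : AllP (InvM (StL (AutG r 1782) [995, 0])) ML87 := AllP.cons (invM_base _ _ _) (AllP.cons (row995.base _) (AllP.up iv83 _))
theorem row47 : IsRow r 47 M92 := row0.word hU hG rw93
theorem iv95 : AllP (InvM (StL (AutG r 1782) [47, 995, 0])) ML94 := AllP.cons (invM_base _ _ _) (AllP.cons (row47.base _) (AllP.up iv88 _))
theorem row79 : IsRow r 79 M99 := row0.word hU hG rw100
theorem iv102 : AllP (InvM (StL (AutG r 1782) [79, 47, 995, 0])) ML101 := AllP.cons (invM_base _ _ _) (AllP.cons (row79.base _) (AllP.up iv95 _))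
theorem row125 : IsRow r 125 M106 := row0.word hU hG rw107
theorem iv109 : AllP (InvM (StL (AutG r 1782) [125, 79, 47, 995, 0])) ML108 := AllP.cons (invM_base _ _ _) (AllP.cons (row125.base _) (AllP.up iv102 _))
theorem row271 : IsRow r 271 M113 := row0.word hU hG rw114
theorem iv116 : AllP (InvM (StL (AutG r 1782) [271, 125, 79, 47, 995, 0])) ML115 := AllP.cons (invM_base _ _ _) (AllP.cons (row271.base _) (AllP.up iv109 _))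
theorem row407 : IsRow r 407 M120 := row0.word hU hG rw121
theorem iv123 : AllP (InvM (StL (AutG r 1782) [407, 271, 125, 79, 47, 995, 0])) ML122 := AllP.cons (invM_base _ _ _) (AllP.cons (row407.base _) (AllP.up iv116 _))
theorem row653 : IsRow r 653 M127 := row0.word hU hG rw128
theorem iv130 : AllP (InvM (StL (AutG r 1782) [653, 407, 271, 125, 79, 47, 995, 0])) ML129 := AllP.cons (invM_base _ _ _) (AllP.cons (row653.base _) (AllP.up iv123 _))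
theorem row835 : IsRow r 835 M132 := row0.word hU hG rw133
theorem iv135 : AllP (InvM (StL (AutG r 1782) [653, 407, 271, 125, 79, 47, 995, 0])) ML134 := AllP.cons (row835.pat iv130 pt131) iv130
theorem row860 : IsRow r 860 M137 := row0.word hU hG rw138
theorem iv140 : AllP (InvM (StL (AutG r 1782) [653, 407, 271, 125, 79, 47, 995, 0])) ML139 := AllP.cons (row860.pat iv135 pt136) iv135
theorem row852 : IsRow r 852 M142 := row0.word hU hG rw143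
theorem iv145 : AllP (InvM (StL (AutG r 1782) [653, 407, 271, 125, 79, 47, 995, 0])) ML144 := AllP.cons (row852.pat iv140 pt141) iv140
theorem row247 : IsRow r 247 M147 := row0.word hU hG rw148
theorem iv150 : AllP (InvM (StL (AutG r 1782) [653, 407, 271, 125, 79, 47, 995, 0])) ML149 := AllP.cons (row247.pat iv145 pt146) iv145
theorem row1575 : IsRow r 1575 M152 := row0.word hU hG rw153
theorem iv155 : AllP (InvM (StL (AutG r 1782) [653, 407, 271, 125, 79, 47, 995, 0])) ML154 := AllP.cons (row1575.pat iv150 pt151) iv150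
theorem row1503 : IsRow r 1503 M157 := row0.word hU hG rw158
theorem iv160 : AllP (InvM (StL (AutG r 1782) [653, 407, 271, 125, 79, 47, 995, 0])) ML159 := AllP.cons (row1503.pat iv155 pt156) iv155
theorem row286 : IsRow r 286 M162 := row0.word hU hG rw163
theorem iv165 : AllP (InvM (StL (AutG r 1782) [653, 407, 271, 125, 79, 47, 995, 0])) ML164 := AllP.cons (row286.pat iv160 pt161) iv160
theorem row681 : IsRow r 681 M167 := row0.word hU hG rw168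
theorem iv170 : AllP (InvM (StL (AutG r 1782) [653, 407, 271, 125, 79, 47, 995, 0])) ML169 := AllP.cons (row681.pat iv165 pt166) iv165
theorem row245 : IsRow r 245 M172 := row0.word hU hG rw173
theorem iv175 : AllP (InvM (StL (AutG r 1782) [653, 407, 271, 125, 79, 47, 995, 0])) ML174 := AllP.cons (row245.pat iv170 pt171) iv170
theorem row1202 : IsRow r 1202 M177 := row0.word hU hG rw178
theorem iv180 : AllP (InvM (StL (AutG r 1782) [653, 407, 271, 125, 79, 47, 995, 0])) ML179 := AllP.cons (row1202.pat iv175 pt176) iv175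
theorem row1230 : IsRow r 1230 M182 := row0.word hU hG rw183
theorem iv185 : AllP (InvM (StL (AutG r 1782) [653, 407, 271, 125, 79, 47, 995, 0])) ML184 := AllP.cons (row1230.pat iv180 pt181) iv180
theorem row1406 : IsRow r 1406 M187 := row0.word hU hG rw188
theorem iv190 : AllP (InvM (StL (AutG r 1782) [653, 407, 271, 125, 79, 47, 995, 0])) ML189 := AllP.cons (row1406.pat iv185 pt186) iv185
theorem row1123 : IsRow r 1123 M192 := row0.word hU hG rw193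
theorem iv195 : AllP (InvM (StL (AutG r 1782) [653, 407, 271, 125, 79, 47, 995, 0])) ML194 := AllP.cons (row1123.pat iv190 pt191) iv190
theorem row1094 : IsRow r 1094 M197 := row0.word hU hG rw198
theorem iv200 : AllP (InvM (StL (AutG r 1782) [653, 407, 271, 125, 79, 47, 995, 0])) ML199 := AllP.cons (row1094.pat iv195 pt196) iv195
theorem row1192 : IsRow r 1192 M202 := row0.word hU hG rw203
theorem iv205 : AllP (InvM (StL (AutG r 1782) [653, 407, 271, 125, 79, 47, 995, 0])) ML204 := AllP.cons (row1192.pat iv200 pt201) iv200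
theorem row850 : IsRow r 850 M207 := row0.word hU hG rw208
theorem iv210 : AllP (InvM (StL (AutG r 1782) [653, 407, 271, 125, 79, 47, 995, 0])) ML209 := AllP.cons (row850.pat iv205 pt206) iv205
theorem row1716 : IsRow r 1716 M212 := row0.word hU hG rw213
theorem iv215 : AllP (InvM (StL (AutG r 1782) [653, 407, 271, 125, 79, 47, 995, 0])) ML214 := AllP.cons (row1716.pat iv210 pt211) iv210
theorem row541 : IsRow r 541 M217 := row0.word hU hG rw218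
theorem iv220 : AllP (InvM (StL (AutG r 1782) [653, 407, 271, 125, 79, 47, 995, 0])) ML219 := AllP.cons (row541.pat iv215 pt216) iv215
theorem row809 : IsRow r 809 M222 := row0.word hU hG rw223
theorem iv225 : AllP (InvM (StL (AutG r 1782) [653, 407, 271, 125, 79, 47, 995, 0])) ML224 := AllP.cons (row809.pat iv220 pt221) iv220
theorem bd227 : Nat.card (StL (AutG r 1782) [407, 271, 125, 79, 47, 995, 0]) ≤ 2 := card_le_step (m := 1) (invM_pat iv123 pt125) sz126 (card_le_sep iv225 sep226)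
theorem bd228 : Nat.card (StL (AutG r 1782) [271, 125, 79, 47, 995, 0]) ≤ 6 := card_le_step (m := 2) (invM_pat iv116 pt118) sz119 bd227
theorem bd229 : Nat.card (StL (AutG r 1782) [125, 79, 47, 995, 0]) ≤ 24 := card_le_step (m := 6) (invM_pat iv109 pt111) sz112 bd228
theorem bd230 : Nat.card (StL (AutG r 1782) [79, 47, 995, 0]) ≤ 336 := card_le_step (m := 24) (invM_pat iv102 pt104) sz105 bd229
theorem bd231 : Nat.card (StL (AutG r 1782) [47, 995, 0]) ≤ 12096 := card_le_step (m := 336) (invM_pat iv95 pt97) sz98 bd230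
theorem bd232 : Nat.card (StL (AutG r 1782) [995, 0]) ≤ 1209600 := card_le_step (m := 12096) (invM_pat iv88 pt90) sz91 bd231
theorem bd233 : Nat.card (StL (AutG r 1782) [0]) ≤ 503193600 := card_le_step (m := 1209600) (invM_pat iv83 pt85) sz86 bd232
theorem bd234 : Nat.card (StL (AutG r 1782) []) ≤ 896690995200 := card_le_step (m := 503193600) (invM_pat AllP.nil pt80) sz81 bd233
theorem autb : Nat.card (AutG r 1782) ≤ 896690995200 := StL_nil (AutG r 1782) ▸ bd234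
theorem presHsq : ∀ j < 6, j < 6 → U.fP [1, 3, 5, 7, 9, 11] j * U.fP [1, 3, 5, 7, 9, 11] j = 1 :=
  Tab.sq (show AllP (fun z => evA U.τ [z, z] = 1) [1, 3, 5, 7, 9, 11] from AllP.cons (hU.one rel235) (AllP.cons (hU.one rel236) (AllP.cons (hU.one rel237) (AllP.cons (hU.one rel238) (AllP.cons (hU.one rel239) (AllP.cons (hU.one rel240) (AllP.nil))))))) 6 rfl
theorem presHiv : IvOk (2 * 6) (atm 6 (U.fP [1, 3, 5, 7, 9, 11])) := ivOk_atm presHsq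
theorem presHpz1 : PZ U (atm 6 (U.fP [1, 3, 5, 7, 9, 11])) presHEX 1 := PZ.of_atom (y := 2 * 0) (by decide +kernel) (atm_two_mul _ (by decide))
theorem presHpz3 : PZ U (atm 6 (U.fP [1, 3, 5, 7, 9, 11])) presHEX 3 := PZ.of_atom (y := 2 * 1) (by decide +kernel) (atm_two_mul _ (by decide))
theorem presHpz5 : PZ U (atm 6 (U.fP [1, 3, 5, 7, 9, 11])) presHEX 5 := PZ.of_atom (y := 2 * 2) (by decide +kernel) (atm_two_mul _ (by decide))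
theorem presHpz7 : PZ U (atm 6 (U.fP [1, 3, 5, 7, 9, 11])) presHEX 7 := PZ.of_atom (y := 2 * 3) (by decide +kernel) (atm_two_mul _ (by decide))
theorem presHpz9 : PZ U (atm 6 (U.fP [1, 3, 5, 7, 9, 11])) presHEX 9 := PZ.of_atom (y := 2 * 4) (by decide +kernel) (atm_two_mul _ (by decide))
theorem presHpz11 : PZ U (atm 6 (U.fP [1, 3, 5, 7, 9, 11])) presHEX 11 := PZ.of_atom (y := 2 * 5) (by decide +kernel) (atm_two_mul _ (by decide))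
theorem presHpz15 : PZ U (atm 6 (U.fP [1, 3, 5, 7, 9, 11])) presHEX 15 := PZ.of_def presHiv (d := [3, 1, 3, 11, 1, 3]) (AllP.cons presHpz3 (AllP.cons presHpz1 (AllP.cons presHpz3 (AllP.cons presHpz11 (AllP.cons presHpz1 (AllP.cons presHpz3 (AllP.nil))))))) (hU.one rel241) (by decide +kernel)
theorem presHpz16 : PZ U (atm 6 (U.fP [1, 3, 5, 7, 9, 11])) presHEX 16 := PZ.of_inv presHiv presHpz15 (by decide +kernel)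
theorem presHpz17 : PZ U (atm 6 (U.fP [1, 3, 5, 7, 9, 11])) presHEX 17 := PZ.of_def presHiv (d := [3, 5, 7, 11, 3, 5, 7, 3, 1, 3, 5, 1, 3]) (AllP.cons presHpz3 (AllP.cons presHpz5 (AllP.cons presHpz7 (AllP.cons presHpz11 (AllP.cons presHpz3 (AllP.cons presHpz5 (AllP.cons presHpz7 (AllP.cons presHpz3 (AllP.cons presHpz1 (AllP.cons presHpz3 (AllP.cons presHpz5 (AllP.cons presHpz1 (AllP.cons presHpz3 (AllP.nil)))))))))))))) (hU.one rel242) (by decide +kernel)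
theorem presHpz18 : PZ U (atm 6 (U.fP [1, 3, 5, 7, 9, 11])) presHEX 18 := PZ.of_inv presHiv presHpz17 (by decide +kernel)
theorem presHPZ : AllP (PZ U (atm 6 (U.fP [1, 3, 5, 7, 9, 11])) presHEX) [1, 3, 5, 7, 9, 11, 15, 16, 17, 18] :=
  AllP.cons presHpz1 (AllP.cons presHpz3 (AllP.cons presHpz5 (AllP.cons presHpz7 (AllP.cons presHpz9 (AllP.cons presHpz11 (AllP.cons presHpz15 (AllP.cons presHpz16 (AllP.cons presHpz17 (AllP.cons presHpz18 (AllP.nil))))))))))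
theorem presH : Pres 6 6 G1365.RL (U.fP [1, 3, 5, 7, 9, 11]) :=
  ⟨presHsq, relAll_sound presHiv (W := [[3, 1, 3, 1, 3, 1, 3, 1, 3, 1], [5, 1, 5, 1], [7, 1, 7, 1], [9, 1, 9, 1], [11, 1, 11, 1], [5, 3, 5, 3, 5, 3], [7, 3, 7, 3], [9, 3, 9, 3], [11, 3, 11, 3, 11, 3], [7, 5, 7, 5, 7, 5, 7, 5, 7, 5, 7, 5, 7, 5, 7, 5], [9, 5, 9, 5], [11, 5, 11, 5], [9, 7, 9, 7, 9, 7], [11, 7, 11, 7], [11, 9, 11, 9], [5, 7, 5, 7, 5, 7, 5, 7, 1], [11, 5, 3, 1, 11, 5, 3, 1, 11, 5, 3, 1, 11, 5, 3, 1, 11, 5, 3, 1], [9, 7, 5, 7, 5, 3, 7, 5, 7, 5, 3, 7, 5, 7, 5, 3, 7, 5, 7, 5, 3, 7, 5, 7, 5, 3, 9, 7, 5, 7, 5, 3, 7, 5, 7, 5, 3, 7, 5, 7, 5, 3, 7, 5, 7, 5, 3, 7, 5, 7, 5, 3, 9, 7, 5, 7, 5, 3, 7, 5, 7, 5, 3, 7, 5, 7, 5, 3, 7, 5, 7, 5, 3, 7, 5, 7, 5, 3]]) (rules := [⟨[3, 1, 3, 1, 3, 1, 3, 1, 3, 1], [], 0, true⟩, ⟨[5, 1, 5, 1], [], 1, true⟩, ⟨[7, 1, 7,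 1], [], 2, true⟩, ⟨[9, 1, 9, 1], [], 3, true⟩, ⟨[11, 1, 11, 1], [], 4, true⟩, ⟨[5, 3, 5, 3, 5, 3], [], 5, true⟩, ⟨[7, 3, 7, 3], [], 6, true⟩, ⟨[9, 3, 9, 3], [], 7, true⟩, ⟨[11, 3, 11, 3, 11, 3], [], 8, true⟩, ⟨[7, 5, 7, 5, 7, 5, 7, 5, 7, 5, 7, 5, 7, 5, 7, 5], [], 9, true⟩, ⟨[9, 5, 9, 5], [], 10, true⟩, ⟨[11, 5, 11, 5], [], 11, true⟩, ⟨[9, 7, 9, 7, 9, 7], [], 12, true⟩, ⟨[11, 7, 11, 7], [], 13, true⟩, ⟨[11, 9, 11, 9], [], 14, true⟩, ⟨[5, 7, 5, 7, 5, 7, 5, 7, 1], [], 15, true⟩, ⟨[11, 5, 3, 1, 11, 5, 3, 1, 11, 5, 3, 1, 11, 5, 3, 1, 11, 5, 3, 1], [], 16, true⟩, ⟨[9, 7, 5, 7, 5, 3, 7, 5, 7, 5, 3, 7, 5, 7, 5, 3, 7, 5, 7, 5, 3, 7, 5, 7, 5, 3, 9, 7, 5, 7, 5, 3, 7, 5, 7, 5, 3, 7, 5, 7, 5, 3, 7, 5, 7, 5, 3, 7, 5, 7, 5, 3, 9, 7, 5, 7, 5, 3, 7, 5, 7, 5, 3, 7, 5, 7, 5, 3, 7, 5, 7, 5, 3, 7, 5, 7, 5, 3], [], 17, true⟩]) presHPZ (AllP.cons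 (hU.one rel243) (AllP.cons (hU.one rel244) (AllP.cons (hU.one rel245) (AllP.cons (hU.one rel246) (AllP.cons (hU.one rel247) (AllP.cons (hU.one rel248) (AllP.cons (hU.one rel249) (AllP.cons (hU.one rel250) (AllP.cons (hU.one rel251) (AllP.cons (hU.one rel252) (AllP.cons (hU.one rel253) (AllP.cons (hU.one rel254) (AllP.cons (hU.one rel255) (AllP.cons (hU.one rel256) (AllP.cons (hU.one rel257) (AllP.cons (hU.one rel258) (AllP.cons (hU.one rel259) (AllP.cons (hU.one rel260) (AllP.nil))))))))))))))))))) (by decide +kernel)⟩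
noncomputable abbrev Γ : Subgroup (Equiv.Perm ℕ) := gsub 6 (U.fP [1, 3, 5, 7, 9, 11])
theorem eΓ : Γ = (U.lsub W2) := lsub_eq_gsub U [1, 3, 5, 7, 9, 11]
theorem hl : U.Link Γ.subtype (atm 6 (lift Γ (U.fP [1, 3, 5, 7, 9, 11]))) (2 * 6) :=
  link_self U [1, 3, 5, 7, 9, 11] 6 (by intro j hj; interval_cases j <;> rfl) (by decide +kernel)
theorem isoH : Nonempty (G1365.P ≃* Γ) :=
  (iso_of_simple G1365.bound (by norm_num) G1365.cert.pres presH G1365.lbP G1365.simpleP (w := [0])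
    fun h => absurd (hU.sends sd261) (by
      rw [show evA U.τ [1] = 1 from (one_mul _).trans ((mul_one _).symm.trans h)]; decide)).elim fun e _ => ⟨e⟩
theorem cardH : Nat.card (U.lsub W2) = 251596800 :=
  isoH.elim fun e => eΓ ▸ (Nat.card_congr e.toEquiv).symm.trans G1365.cardP
instance instFinH : Finite (U.lsub W2) := Nat.finite_of_card_ne_zero (by rw [cardH]; norm_num)
instance instFinΓ : Finite Γ := eΓ ▸ instFinH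
theorem conjZ : ∀ u ∈ (U.lsub W2), ∃ s ∈ U.lsub W262, ∃ w, w ∈ G2080.X.WL ∧
    cj u (U.lsub W263) = cj s (U.lsub (ZW.map (cjw w))) := by
  obtain ⟨ψ, hψ⟩ := G1365.bound.exists_hom (by norm_num) presH G2080.cert.pres (cardH.symm.trans (congrArg (fun K : Subgroup _ => Nat.card K) eΓ.symm)).dvd
  rw [← eΓ, ← Γ.range_subtype]
  exact hl.conjZ (hl.norm Γ.subtype_injective (BW := G2080.BW) (I := [[[0]], [[0]], [[0]], [[1]], [[0]]]) (W := [[4, 6, 8, 6, 8, 4, 6, 8, 6, 8, 4, 6, 8, 6, 8, 4, 6, 8, 6, 8, 4, 6, 8, 6, 8, 2, 7, 5, 7, 5, 3, 7, 5, 7, 5, 3, 7, 5, 7, 5, 3, 7, 5, 7, 5, 3, 7, 5, 7, 5, 3, 1], [4, 6, 8, 6, 8, 4, 6, 8, 6, 8, 4, 6, 8, 6, 8, 4, 6, 8, 6, 8, 4, 6, 8, 6, 8, 4, 7, 5, 7, 5, 3, 7, 5, 7, 5, 3, 7, 5, 7, 5, 3, 7, 5, 7, 5, 3, 7, 5, 7, 5, 3, 3], [4, 6, 8, 6, 8, 4, 6, 8, 6, 8, 4, 6, 8, 6, 8, 4, 6, 8, 6, 8, 4, 6, 8, 6,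 8, 6, 7, 5, 7, 5, 3, 7, 5, 7, 5, 3, 7, 5, 7, 5, 3, 7, 5, 7, 5, 3, 7, 5, 7, 5, 3, 5], [7, 5, 7, 5, 3, 7, 5, 7, 5, 3, 7, 5, 7, 5, 3, 7, 5, 7, 5, 3, 7, 5, 7, 5, 3, 8, 7, 5, 7, 5, 3, 7, 5, 7, 5, 3, 7, 5, 7, 5, 3, 7, 5, 7, 5, 3, 7, 5, 7, 5, 3, 7], [4, 6, 8, 6, 8, 4, 6, 8, 6, 8, 4, 6, 8, 6, 8, 4, 6, 8, 6, 8, 4, 6, 8, 6, 8, 12, 7, 5, 7, 5, 3, 7, 5, 7, 5, 3, 7, 5, 7, 5, 3, 7, 5, 7, 5, 3, 7, 5, 7, 5, 3, 11]]) (by decide +kernel) (show AllP _ [[4, 6, 8, 6, 8, 4, 6, 8, 6, 8, 4, 6, 8, 6, 8, 4, 6, 8, 6, 8, 4, 6, 8, 6, 8, 2, 7, 5, 7, 5, 3, 7, 5, 7, 5, 3, 7, 5, 7, 5, 3, 7, 5, 7, 5, 3, 7, 5, 7, 5, 3, 1], [4, 6, 8, 6, 8, 4, 6, 8, 6, 8, 4, 6, 8, 6, 8, 4, 6, 8, 6, 8, 4, 6, 8, 6, 8, 4, 7, 5, 7, 5, 3, 7, 5, 7, 5, 3, 7, 5, 7, 5, 3, 7, 5, 7, 5, 3, 7, 5, 7, 5, 3, 3], [4, 6, 8, 6, 8, 4, 6, 8, 6, 8, 4, 6, 8, 6, 8, 4, 6, 8, 6, 8, 4, 6, 8, 6,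 8, 6, 7, 5, 7, 5, 3, 7, 5, 7, 5, 3, 7, 5, 7, 5, 3, 7, 5, 7, 5, 3, 7, 5, 7, 5, 3, 5], [7, 5, 7, 5, 3, 7, 5, 7, 5, 3, 7, 5, 7, 5, 3, 7, 5, 7, 5, 3, 7, 5, 7, 5, 3, 8, 7, 5, 7, 5, 3, 7, 5, 7, 5, 3, 7, 5, 7, 5, 3, 7, 5, 7, 5, 3, 7, 5, 7, 5, 3, 7], [4, 6, 8, 6, 8, 4, 6, 8, 6, 8, 4, 6, 8, 6, 8, 4, 6, 8, 6, 8, 4, 6, 8, 6, 8, 12, 7, 5, 7, 5, 3, 7, 5, 7, 5, 3, 7, 5, 7, 5, 3, 7, 5, 7, 5, 3, 7, 5, 7, 5, 3, 11]] from AllP.cons (hU.one rel264) (AllP.cons (hU.one rel265) (AllP.cons (hU.one rel266) (AllP.cons (hU.one rel267) (AllP.cons (hU.one rel268) (AllP.nil)))))))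
    (by decide +kernel) (by decide +kernel) (by decide +kernel) (G2080.X.conj presH.lift (gsub_lift _ _) hψ)
theorem pQ : IsPGroup 5 (U.lsub W262) := hl.isPGroup Γ.subtype_injective (QW := G2080.X.SW) (e := 2) P25.cert.bound_nil (by norm_num) (by decide +kernel)
  (W := [[3, 1, 3, 1, 3, 1, 3, 1, 3, 1], [5, 3, 1, 3, 5, 7, 9, 7, 5, 3, 9, 7, 5, 3, 7, 5, 3, 1, 3, 5, 5, 3, 1, 3, 5, 7, 9, 7, 5, 3, 9, 7, 5, 3, 7, 5, 3, 1, 3, 5, 5, 3, 1, 3, 5, 7, 9, 7, 5, 3, 9, 7, 5, 3, 7, 5, 3, 1, 3, 5, 5, 3, 1, 3, 5, 7, 9, 7, 5, 3, 9, 7, 5, 3, 7, 5, 3, 1, 3, 5, 5, 3, 1, 3, 5, 7, 9, 7, 5, 3, 9, 7, 5, 3, 7, 5, 3, 1, 3, 5], [6, 4, 2, 4, 6, 8, 4, 6, 8, 10, 4, 6, 8, 10, 8, 6, 4, 2, 4, 6, 2, 4, 5, 3, 1, 3, 5, 7, 9, 7, 5, 3, 9, 7, 5, 3, 7, 5, 3, 1, 3, 5, 3, 1]]) (by decide +kernel) (show AllP _ [[3, 1, 3, 1, 3, 1, 3, 1, 3, 1], [5, 3, 1, 3, 5, 7,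 9, 7, 5, 3, 9, 7, 5, 3, 7, 5, 3, 1, 3, 5, 5, 3, 1, 3, 5, 7, 9, 7, 5, 3, 9, 7, 5, 3, 7, 5, 3, 1, 3, 5, 5, 3, 1, 3, 5, 7, 9, 7, 5, 3, 9, 7, 5, 3, 7, 5, 3, 1, 3, 5, 5, 3, 1, 3, 5, 7, 9, 7, 5, 3, 9, 7, 5, 3, 7, 5, 3, 1, 3, 5, 5, 3, 1, 3, 5, 7, 9, 7, 5, 3, 9, 7, 5, 3, 7, 5, 3, 1, 3, 5], [6, 4, 2, 4, 6, 8, 4, 6, 8, 10, 4, 6, 8, 10, 8, 6, 4, 2, 4, 6, 2, 4, 5, 3, 1, 3, 5, 7, 9, 7, 5, 3, 9, 7, 5, 3, 7, 5, 3, 1, 3, 5, 3, 1]] from AllP.cons (hU.one rel243) (AllP.cons (hU.one rel269) (AllP.cons (hU.one rel270) (AllP.nil))))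
theorem leQ : U.lsub W262 ≤ (U.lsub W2) := Tab.lsub_le_gz hH (by decide +kernel)
theorem pZ : IsPGroup 3 (U.lsub W263) := Tab.isPGroup_single (by norm_num) (hU.one rel271) (by decide +kernel)
theorem leZ : U.lsub W263 ≤ (U.lsub W2) := Tab.lsub_le_gz hH (by decide +kernel)
theorem p7 : IsPGroup 7 (U.lsub W272) := Tab.isPGroup_single (by norm_num) (hU.one rel273) (by decide +kernel)
theorem le7 : U.lsub W272 ≤ (U.lsub W2) := Tab.lsub_le_gz hH (by decide +kernel)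
def Case (w : List ℕ) : Prop := ∃ z, ([z] == ZW.map (cjw w)) = true ∧ (Reach (U.lsub (z :: W262)) 995 M12 ∨
  (∀ g ∈ U.lsub [z], g 995 = 995) ∧ ∃ l s, sizeOk 11 (U.shrink W262 l (U.fixM 11 z M12)) s = true ∧ s < 7)
theorem reach283 : Reach (U.lsub ([12, 4, 6, 8, 10, 7, 5, 7, 5, 3, 7, 5, 7, 5, 3, 7, 5, 7, 5, 3, 7, 5, 7, 5, 3, 7, 5, 7, 5, 3, 9, 7, 5, 3, 11] :: W262)) 995 M12 := (Reach.grow hU (Reach.base _ 995) gr282)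
theorem reach289 : Reach (U.lsub ([12, 8, 4, 6, 8, 10, 7, 5, 7, 5, 3, 7, 5, 7, 5, 3, 7, 5, 7, 5, 3, 7, 5, 7, 5, 3, 7, 5, 7, 5, 3, 9, 7, 5, 3, 7, 11] :: W262)) 995 M12 := (Reach.grow hU (Reach.base _ 995) gr288)
theorem reach291 : Reach (U.lsub ([12, 4, 2, 4, 6, 8, 10, 7, 5, 7, 5, 3, 7, 5, 7, 5, 3, 7, 5, 7, 5, 3, 7, 5, 7, 5, 3, 7, 5, 7, 5, 3, 9, 7, 5, 3, 1, 3, 11] :: W262)) 995 M12 := (Reach.grow hU (Reach.base _ 995) gr290)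
theorem reach295 : Reach (U.lsub ([12, 6, 8, 4, 6, 8, 10, 7, 5, 7, 5, 3, 7, 5, 7, 5, 3, 7, 5, 7, 5, 3, 7, 5, 7, 5, 3, 7, 5, 7, 5, 3, 9, 7, 5, 3, 7, 5, 11] :: W262)) 995 M12 := (Reach.grow hU (Reach.base _ 995) gr294)
theorem reach297 : Reach (U.lsub ([12, 10, 8, 4, 6, 8, 10, 7, 5, 7, 5, 3, 7, 5, 7, 5, 3, 7, 5, 7, 5, 3, 7, 5, 7, 5, 3, 7, 5, 7, 5, 3, 9, 7, 5, 3, 7, 9, 11] :: W262)) 995 M12 := (Reach.grow hU (Reach.base _ 995) gr296)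
theorem reach299 : Reach (U.lsub ([12, 8, 4, 2, 4, 6, 8, 10, 7, 5, 7, 5, 3, 7, 5, 7, 5, 3, 7, 5, 7, 5, 3, 7, 5, 7, 5, 3, 7, 5, 7, 5, 3, 9, 7, 5, 3, 1, 3, 7, 11] :: W262)) 995 M12 := (Reach.grow hU (Reach.base _ 995) gr298)
theorem reach301 : Reach (U.lsub ([12, 8, 6, 8, 4, 6, 8, 10, 7, 5, 7, 5, 3, 7, 5, 7, 5, 3, 7, 5, 7, 5, 3, 7, 5, 7, 5, 3, 7, 5, 7, 5, 3, 9, 7, 5, 3, 7, 5, 7, 11] :: W262)) 995 M12 := (Reach.grow hU (Reach.base _ 995) gr300)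
theorem reach303 : Reach (U.lsub ([12, 10, 6, 8, 4, 6, 8, 10, 7, 5, 7, 5, 3, 7, 5, 7, 5, 3, 7, 5, 7, 5, 3, 7, 5, 7, 5, 3, 7, 5, 7, 5, 3, 9, 7, 5, 3, 7, 5, 9, 11] :: W262)) 995 M12 := (Reach.grow hU (Reach.base _ 995) gr302)
theorem reach305 : Reach (U.lsub ([12, 4, 6, 8, 2, 4, 6, 8, 10, 7, 5, 7, 5, 3, 7, 5, 7, 5, 3, 7, 5, 7, 5, 3, 7, 5, 7, 5, 3, 7, 5, 7, 5, 3, 9, 7, 5, 3, 1, 7, 5, 3, 11] :: W262)) 995 M12 := (Reach.grow hU (Reach.base _ 995) gr304)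
theorem reach307 : Reach (U.lsub ([6, 4, 12, 8, 2, 4, 6, 8, 10, 7, 5, 7, 5, 3, 7, 5, 7, 5, 3, 7, 5, 7, 5, 3, 7, 5, 7, 5, 3, 7, 5, 7, 5, 3, 9, 7, 5, 3, 1, 7, 11, 3, 5] :: W262)) 995 M12 := (Reach.grow hU (Reach.base _ 995) gr306)
theorem reach311 : Reach (U.lsub ([12, 8, 6, 8, 4, 2, 4, 6, 8, 10, 7, 5, 7, 5, 3, 7, 5, 7, 5, 3, 7, 5, 7, 5, 3, 7, 5, 7, 5, 3, 7, 5, 7, 5, 3, 9, 7, 5, 3, 1, 3, 7, 5, 7, 11] :: W262)) 995 M12 := (Reach.grow hU (Reach.base _ 995) gr310)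
theorem reach315 : Reach (U.lsub ([6, 4, 12, 8, 4, 2, 4, 6, 8, 10, 7, 5, 7, 5, 3, 7, 5, 7, 5, 3, 7, 5, 7, 5, 3, 7, 5, 7, 5, 3, 7, 5, 7, 5, 3, 9, 7, 5, 3, 1, 3, 7, 11, 3, 5] :: W262)) 995 M12 := (Reach.grow hU (Reach.base _ 995) gr314)
theorem reach319 : Reach (U.lsub ([6, 4, 12, 10, 8, 2, 4, 6, 8, 10, 7, 5, 7, 5, 3, 7, 5, 7, 5, 3, 7, 5, 7, 5, 3, 7, 5, 7, 5, 3, 7, 5, 7, 5, 3, 9, 7, 5, 3, 1, 7, 9, 11, 3, 5] :: W262)) 995 M12 := (Reach.grow hU (Reach.base _ 995) gr318)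
theorem reach321 : Reach (U.lsub ([8, 6, 4, 12, 8, 2, 4, 6, 8, 10, 7, 5, 7, 5, 3, 7, 5, 7, 5, 3, 7, 5, 7, 5, 3, 7, 5, 7, 5, 3, 7, 5, 7, 5, 3, 9, 7, 5, 3, 1, 7, 11, 3, 5, 7] :: W262)) 995 M12 := (Reach.grow hU (Reach.base _ 995) gr320)
theorem reach323 : Reach (U.lsub ([12, 6, 8, 10, 6, 8, 4, 6, 8, 10, 7, 5, 7, 5, 3, 7, 5, 7, 5, 3, 7, 5, 7, 5, 3, 7, 5, 7, 5, 3, 7, 5, 7, 5, 3, 9, 7, 5, 3, 7, 5, 9, 7, 5, 11] :: W262)) 995 M12 := (Reach.grow hU (Reach.base _ 995) gr322)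
theorem reach327 : Reach (U.lsub ([12, 8, 10, 6, 8, 4, 2, 4, 6, 8, 10, 7, 5, 7, 5, 3, 7, 5, 7, 5, 3, 7, 5, 7, 5, 3, 7, 5, 7, 5, 3, 7, 5, 7, 5, 3, 9, 7, 5, 3, 1, 3, 7, 5, 9, 7, 11] :: W262)) 995 M12 := (Reach.grow hU (Reach.base _ 995) gr326)
theorem reach329 : Reach (U.lsub ([8, 6, 4, 12, 8, 4, 2, 4, 6, 8, 10, 7, 5, 7, 5, 3, 7, 5, 7, 5, 3, 7, 5, 7, 5, 3, 7, 5, 7, 5, 3, 7, 5, 7, 5, 3, 9, 7, 5, 3, 1, 3, 7, 11, 3, 5, 7] :: W262)) 995 M12 := (Reach.grow hU (Reach.base _ 995) gr328)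
theorem reach333 : Reach (U.lsub ([6, 4, 12, 4, 6, 8, 2, 4, 6, 8, 10, 7, 5, 7, 5, 3, 7, 5, 7, 5, 3, 7, 5, 7, 5, 3, 7, 5, 7, 5, 3, 7, 5, 7, 5, 3, 9, 7, 5, 3, 1, 7, 5, 3, 11, 3, 5] :: W262)) 995 M12 := (Reach.grow hU (Reach.base _ 995) gr332)
theorem reach335 : Reach (U.lsub ([12, 6, 8, 10, 6, 8, 2, 4, 6, 8, 10, 7, 5, 7, 5, 3, 7, 5, 7, 5, 3, 7, 5, 7, 5, 3, 7, 5, 7, 5, 3, 7, 5, 7, 5, 3, 9, 7, 5, 3, 1, 7, 5, 9, 7, 5, 11] :: W262)) 995 M12 := (Reach.grow hU (Reach.base _ 995) gr334)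
theorem reach337 : Reach (U.lsub ([8, 6, 4, 12, 10, 8, 2, 4, 6, 8, 10, 7, 5, 7, 5, 3, 7, 5, 7, 5, 3, 7, 5, 7, 5, 3, 7, 5, 7, 5, 3, 7, 5, 7, 5, 3, 9, 7, 5, 3, 1, 7, 9, 11, 3, 5, 7] :: W262)) 995 M12 := (Reach.grow hU (Reach.base _ 995) gr336)
theorem reach341 : Reach (U.lsub ([12, 6, 8, 10, 8, 6, 8, 4, 6, 8, 10, 7, 5, 7, 5, 3, 7, 5, 7, 5, 3, 7, 5, 7, 5, 3, 7, 5, 7, 5, 3, 7, 5, 7, 5, 3, 9, 7, 5, 3, 7, 5, 7, 9, 7, 5, 11] :: W262)) 995 M12 := (Reach.grow hU (Reach.base _ 995) gr340)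
theorem reach343 : Reach (U.lsub ([12, 4, 6, 8, 10, 6, 8, 4, 6, 8, 10, 7, 5, 7, 5, 3, 7, 5, 7, 5, 3, 7, 5, 7, 5, 3, 7, 5, 7, 5, 3, 7, 5, 7, 5, 3, 9, 7, 5, 3, 7, 5, 9, 7, 5, 3, 11] :: W262)) 995 M12 := (Reach.grow hU (Reach.base _ 995) gr342)
theorem reach345 : Reach (U.lsub ([6, 4, 12, 8, 10, 6, 8, 4, 6, 8, 10, 7, 5, 7, 5, 3, 7, 5, 7, 5, 3, 7, 5, 7, 5, 3, 7, 5, 7, 5, 3, 7, 5, 7, 5, 3, 9, 7, 5, 3, 7, 5, 9, 7, 11, 3, 5] :: W262)) 995 M12 := (Reach.grow hU (Reach.base _ 995) gr344)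
theorem reach347 : Reach (U.lsub ([12, 8, 10, 4, 6, 8, 4, 2, 4, 6, 8, 10, 7, 5, 7, 5, 3, 7, 5, 7, 5, 3, 7, 5, 7, 5, 3, 7, 5, 7, 5, 3, 7, 5, 7, 5, 3, 9, 7, 5, 3, 1, 3, 7, 5, 3, 9, 7, 11] :: W262)) 995 M12 := (Reach.grow hU (Reach.base _ 995) gr346)
theorem reach349 : Reach (U.lsub ([12, 6, 8, 10, 6, 8, 4, 2, 4, 6, 8, 10, 7, 5, 7, 5, 3, 7, 5, 7, 5, 3, 7, 5, 7, 5, 3, 7, 5, 7, 5, 3, 7, 5, 7, 5, 3, 9, 7, 5, 3, 1, 3, 7, 5, 9, 7, 5, 11] :: W262)) 995 M12 := (Reach.grow hU (Reach.base _ 995) gr348)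
theorem reach351 : Reach (U.lsub ([8, 6, 4, 12, 10, 8, 4, 2, 4, 6, 8, 10, 7, 5, 7, 5, 3, 7, 5, 7, 5, 3, 7, 5, 7, 5, 3, 7, 5, 7, 5, 3, 7, 5, 7, 5, 3, 9, 7, 5, 3, 1, 3, 7, 9, 11, 3, 5, 7] :: W262)) 995 M12 := (Reach.grow hU (Reach.base _ 995) gr350)
theorem reach355 : Reach (U.lsub ([12, 6, 8, 10, 4, 6, 8, 2, 4, 6, 8, 10, 7, 5, 7, 5, 3, 7, 5, 7, 5, 3, 7, 5, 7, 5, 3, 7, 5, 7, 5, 3, 7, 5, 7, 5, 3, 9, 7, 5, 3, 1, 7, 5, 3, 9, 7, 5, 11] :: W262)) 995 M12 := (Reach.grow hU (Reach.base _ 995) gr354)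
theorem reach359 : Reach (U.lsub ([12, 6, 8, 10, 8, 6, 8, 2, 4, 6, 8, 10, 7, 5, 7, 5, 3, 7, 5, 7, 5, 3, 7, 5, 7, 5, 3, 7, 5, 7, 5, 3, 7, 5, 7, 5, 3, 9, 7, 5, 3, 1, 7, 5, 7, 9, 7, 5, 11] :: W262)) 995 M12 := (Reach.grow hU (Reach.base _ 995) gr358)
theorem reach361 : Reach (U.lsub ([12, 4, 6, 8, 10, 6, 8, 2, 4, 6, 8, 10, 7, 5, 7, 5, 3, 7, 5, 7, 5, 3, 7, 5, 7, 5, 3, 7, 5, 7, 5, 3, 7, 5, 7, 5, 3, 9, 7, 5, 3, 1, 7, 5, 9, 7, 5, 3, 11] :: W262)) 995 M12 := (Reach.grow hU (Reach.base _ 995) gr360)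
theorem reach363 : Reach (U.lsub ([6, 4, 12, 8, 10, 6, 8, 2, 4, 6, 8, 10, 7, 5, 7, 5, 3, 7, 5, 7, 5, 3, 7, 5, 7, 5, 3, 7, 5, 7, 5, 3, 7, 5, 7, 5, 3, 9, 7, 5, 3, 1, 7, 5, 9, 7, 11, 3, 5] :: W262)) 995 M12 := (Reach.grow hU (Reach.base _ 995) gr362)
theorem reach365 : Reach (U.lsub ([6, 8, 6, 4, 12, 10, 8, 2, 4, 6, 8, 10, 7, 5, 7, 5, 3, 7, 5, 7, 5, 3, 7, 5, 7, 5, 3, 7, 5, 7, 5, 3, 7, 5, 7, 5, 3, 9, 7, 5, 3, 1, 7, 9, 11, 3, 5, 7, 5] :: W262)) 995 M12 := (Reach.grow hU (Reach.base _ 995) gr364)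
theorem reach367 : Reach (U.lsub ([10, 8, 6, 4, 12, 10, 8, 2, 4, 6, 8, 10, 7, 5, 7, 5, 3, 7, 5, 7, 5, 3, 7, 5, 7, 5, 3, 7, 5, 7, 5, 3, 7, 5, 7, 5, 3, 9, 7, 5, 3, 1, 7, 9, 11, 3, 5, 7, 9] :: W262)) 995 M12 := (Reach.grow hU (Reach.base _ 995) gr366)
theorem reach369 : Reach (U.lsub ([12, 4, 6, 8, 10, 8, 6, 8, 4, 6, 8, 10, 7, 5, 7, 5, 3, 7, 5, 7, 5, 3, 7, 5, 7, 5, 3, 7, 5, 7, 5, 3, 7, 5, 7, 5, 3, 9, 7, 5, 3, 7, 5, 7, 9, 7, 5, 3, 11] :: W262)) 995 M12 := (Reach.grow hU (Reach.base _ 995) gr368)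
theorem reach371 : Reach (U.lsub ([12, 8, 6, 8, 10, 8, 6, 8, 4, 6, 8, 10, 7, 5, 7, 5, 3, 7, 5, 7, 5, 3, 7, 5, 7, 5, 3, 7, 5, 7, 5, 3, 7, 5, 7, 5, 3, 9, 7, 5, 3, 7, 5, 7, 9, 7, 5, 7, 11] :: W262)) 995 M12 := (Reach.grow hU (Reach.base _ 995) gr370)
theorem reach373 : Reach (U.lsub ([12, 2, 4, 6, 8, 10, 6, 8, 4, 6, 8, 10, 7, 5, 7, 5, 3, 7, 5, 7, 5, 3, 7, 5, 7, 5, 3, 7, 5, 7, 5, 3, 7, 5, 7, 5, 3, 9, 7, 5, 3, 7, 5, 9, 7, 5, 3, 1, 11] :: W262)) 995 M12 := (Reach.grow hU (Reach.base _ 995) gr372)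
theorem reach375 : Reach (U.lsub ([12, 6, 8, 10, 6, 8, 2, 4, 2, 4, 6, 8, 10, 7, 5, 7, 5, 3, 7, 5, 7, 5, 3, 7, 5, 7, 5, 3, 7, 5, 7, 5, 3, 7, 5, 7, 5, 3, 9, 7, 5, 3, 1, 3, 1, 7, 5, 9, 7, 5, 11] :: W262)) 995 M12 := (Reach.grow hU (Reach.base _ 995) gr374)
theorem reach377 : Reach (U.lsub ([12, 6, 8, 10, 4, 6, 8, 4, 2, 4, 6, 8, 10, 7, 5, 7, 5, 3, 7, 5, 7, 5, 3, 7, 5, 7, 5, 3, 7, 5, 7, 5, 3, 7, 5, 7, 5, 3, 9, 7, 5, 3, 1, 3, 7, 5, 3, 9, 7, 5, 11] :: W262)) 995 M12 := (Reach.grow hU (Reach.base _ 995) gr376)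
theorem reach379 : Reach (U.lsub ([12, 6, 8, 10, 8, 6, 8, 4, 2, 4, 6, 8, 10, 7, 5, 7, 5, 3, 7, 5, 7, 5, 3, 7, 5, 7, 5, 3, 7, 5, 7, 5, 3, 7, 5, 7, 5, 3, 9, 7, 5, 3, 1, 3, 7, 5, 7, 9, 7, 5, 11] :: W262)) 995 M12 := (Reach.grow hU (Reach.base _ 995) gr378)
theorem reach381 : Reach (U.lsub ([6, 4, 12, 8, 10, 6, 8, 4, 2, 4, 6, 8, 10, 7, 5, 7, 5, 3, 7, 5, 7, 5, 3, 7, 5, 7, 5, 3, 7, 5, 7, 5, 3, 7, 5, 7, 5, 3, 9, 7, 5, 3, 1, 3, 7, 5, 9, 7, 11, 3, 5] :: W262)) 995 M12 := (Reach.grow hU (Reach.base _ 995) gr380)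
theorem reach383 : Reach (U.lsub ([6, 8, 6, 4, 12, 10, 8, 4, 2, 4, 6, 8, 10, 7, 5, 7, 5, 3, 7, 5, 7, 5, 3, 7, 5, 7, 5, 3, 7, 5, 7, 5, 3, 7, 5, 7, 5, 3, 9, 7, 5, 3, 1, 3, 7, 9, 11, 3, 5, 7, 5] :: W262)) 995 M12 := (Reach.grow hU (Reach.base _ 995) gr382)
theorem reach387 : Reach (U.lsub ([12, 6, 8, 10, 2, 4, 6, 8, 2, 4, 6, 8, 10, 7, 5, 7, 5, 3, 7, 5, 7, 5, 3, 7, 5, 7, 5, 3, 7, 5, 7, 5, 3, 7, 5, 7, 5, 3, 9, 7, 5, 3, 1, 7, 5, 3, 1, 9, 7, 5, 11] :: W262)) 995 M12 := (Reach.grow hU (Reach.base _ 995) gr386)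
theorem reach389 : Reach (U.lsub ([12, 8, 6, 8, 10, 4, 6, 8, 2, 4, 6, 8, 10, 7, 5, 7, 5, 3, 7, 5, 7, 5, 3, 7, 5, 7, 5, 3, 7, 5, 7, 5, 3, 7, 5, 7, 5, 3, 9, 7, 5, 3, 1, 7, 5, 3, 9, 7, 5, 7, 11] :: W262)) 995 M12 := (Reach.grow hU (Reach.base _ 995) gr388)
theorem reach391 : Reach (U.lsub ([6, 4, 12, 8, 10, 4, 6, 8, 2, 4, 6, 8, 10, 7, 5, 7, 5, 3, 7, 5, 7, 5, 3, 7, 5, 7, 5, 3, 7, 5, 7, 5, 3, 7, 5, 7, 5, 3, 9, 7, 5, 3, 1, 7, 5, 3, 9, 7, 11, 3, 5] :: W262)) 995 M12 := (Reach.grow hU (Reach.base _ 995) gr390)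
theorem reach393 : Reach (U.lsub ([8, 6, 4, 12, 10, 4, 6, 8, 2, 4, 6, 8, 10, 7, 5, 7, 5, 3, 7, 5, 7, 5, 3, 7, 5, 7, 5, 3, 7, 5, 7, 5, 3, 7, 5, 7, 5, 3, 9, 7, 5, 3, 1, 7, 5, 3, 9, 11, 3, 5, 7] :: W262)) 995 M12 := (Reach.grow hU (Reach.base _ 995) gr392)
theorem reach395 : Reach (U.lsub ([12, 4, 6, 8, 10, 8, 6, 8, 2, 4, 6, 8, 10, 7, 5, 7, 5, 3, 7, 5, 7, 5, 3, 7, 5, 7, 5, 3, 7, 5, 7, 5, 3, 7, 5, 7, 5, 3, 9, 7, 5, 3, 1, 7, 5, 7, 9, 7, 5, 3, 11] :: W262)) 995 M12 := (Reach.grow hU (Reach.base _ 995) gr394)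
theorem reach397 : Reach (U.lsub ([12, 8, 6, 8, 10, 8, 6, 8, 2, 4, 6, 8, 10, 7, 5, 7, 5, 3, 7, 5, 7, 5, 3, 7, 5, 7, 5, 3, 7, 5, 7, 5, 3, 7, 5, 7, 5, 3, 9, 7, 5, 3, 1, 7, 5, 7, 9, 7, 5, 7, 11] :: W262)) 995 M12 := (Reach.grow hU (Reach.base _ 995) gr396)
theorem reach399 : Reach (U.lsub ([6, 4, 12, 8, 10, 8, 6, 8, 2, 4, 6, 8, 10, 7, 5, 7, 5, 3, 7, 5, 7, 5, 3, 7, 5, 7, 5, 3, 7, 5, 7, 5, 3, 7, 5, 7, 5, 3, 9, 7, 5, 3, 1, 7, 5, 7, 9, 7, 11, 3, 5] :: W262)) 995 M12 := (Reach.grow hU (Reach.base _ 995) gr398)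
theorem reach401 : Reach (U.lsub ([8, 6, 4, 12, 8, 10, 6, 8, 2, 4, 6, 8, 10, 7, 5, 7, 5, 3, 7, 5, 7, 5, 3, 7, 5, 7, 5, 3, 7, 5, 7, 5, 3, 7, 5, 7, 5, 3, 9, 7, 5, 3, 1, 7, 5, 9, 7, 11, 3, 5, 7] :: W262)) 995 M12 := (Reach.grow hU (Reach.base _ 995) gr400)
theorem reach403 : Reach (U.lsub ([6, 8, 6, 2, 4, 12, 10, 8, 2, 4, 6, 8, 10, 7, 5, 7, 5, 3, 7, 5, 7, 5, 3, 7, 5, 7, 5, 3, 7, 5, 7, 5, 3, 7, 5, 7, 5, 3, 9, 7, 5, 3, 1, 7, 9, 11, 3, 1, 5, 7, 5] :: W262)) 995 M12 := (Reach.grow hU (Reach.base _ 995) gr402)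
theorem reach405 : Reach (U.lsub ([10, 6, 8, 6, 4, 12, 10, 8, 2, 4, 6, 8, 10, 7, 5, 7, 5, 3, 7, 5, 7, 5, 3, 7, 5, 7, 5, 3, 7, 5, 7, 5, 3, 7, 5, 7, 5, 3, 9, 7, 5, 3, 1, 7, 9, 11, 3, 5, 7, 5, 9] :: W262)) 995 M12 := (Reach.grow hU (Reach.base _ 995) gr404)
theorem reach407 : Reach (U.lsub ([6, 8, 10, 6, 8, 6, 4, 12, 2, 4, 6, 8, 10, 7, 5, 7, 5, 3, 7, 5, 7, 5, 3, 7, 5, 7, 5, 3, 7, 5, 7, 5, 3, 7, 5, 7, 5, 3, 9, 7, 5, 3, 1, 11, 3, 5, 7, 5, 9, 7, 5] :: W262)) 995 M12 := (Reach.grow hU (Reach.base _ 995) gr406)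
theorem reach409 : Reach (U.lsub ([12, 6, 8, 10, 8, 6, 8, 2, 4, 2, 4, 6, 8, 10, 7, 5, 7, 5, 3, 7, 5, 7, 5, 3, 7, 5, 7, 5, 3, 7, 5, 7, 5, 3, 7, 5, 7, 5, 3, 9, 7, 5, 3, 1, 3, 1, 7, 5, 7, 9, 7, 5, 11] :: W262)) 995 M12 := (Reach.grow hU (Reach.base _ 995) gr408)
theorem reach411 : Reach (U.lsub ([12, 4, 6, 8, 10, 6, 8, 2, 4, 2, 4, 6, 8, 10, 7, 5, 7, 5, 3, 7, 5, 7, 5, 3, 7, 5, 7, 5, 3, 7, 5, 7, 5, 3, 7, 5, 7, 5, 3, 9, 7, 5, 3, 1, 3, 1, 7, 5, 9, 7, 5, 3, 11] :: W262)) 995 M12 := (Reach.grow hU (Reach.base _ 995) gr410)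
theorem reach413 : Reach (U.lsub ([6, 4, 12, 8, 10, 4, 6, 8, 4, 2, 4, 6, 8, 10, 7, 5, 7, 5, 3, 7, 5, 7, 5, 3, 7, 5, 7, 5, 3, 7, 5, 7, 5, 3, 7, 5, 7, 5, 3, 9, 7, 5, 3, 1, 3, 7, 5, 3, 9, 7, 11, 3, 5] :: W262)) 995 M12 := (Reach.grow hU (Reach.base _ 995) gr412)
theorem reach415 : Reach (U.lsub ([6, 4, 12, 6, 8, 10, 6, 8, 4, 2, 4, 6, 8, 10, 7, 5, 7, 5, 3, 7, 5, 7, 5, 3, 7, 5, 7, 5, 3, 7, 5, 7, 5, 3, 7, 5, 7, 5, 3, 9, 7, 5, 3, 1, 3, 7, 5, 9, 7, 5, 11, 3, 5] :: W262)) 995 M12 := (Reach.grow hU (Reach.base _ 995) gr414)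
theorem reach417 : Reach (U.lsub ([8, 6, 4, 12, 8, 10, 6, 8, 4, 2, 4, 6, 8, 10, 7, 5, 7, 5, 3, 7, 5, 7, 5, 3, 7, 5, 7, 5, 3, 7, 5, 7, 5, 3, 7, 5, 7, 5, 3, 9, 7, 5, 3, 1, 3, 7, 5, 9, 7, 11, 3, 5, 7] :: W262)) 995 M12 := (Reach.grow hU (Reach.base _ 995) gr416)
theorem reach419 : Reach (U.lsub ([6, 8, 6, 4, 12, 10, 6, 8, 4, 2, 4, 6, 8, 10, 7, 5, 7, 5, 3, 7, 5, 7, 5, 3, 7, 5, 7, 5, 3, 7, 5, 7, 5, 3, 7, 5, 7, 5, 3, 9, 7, 5, 3, 1, 3, 7, 5, 9, 11, 3, 5, 7, 5] :: W262)) 995 M12 := (Reach.grow hU (Reach.base _ 995) gr418)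
theorem reach421 : Reach (U.lsub ([12, 8, 6, 8, 10, 8, 4, 6, 8, 2, 4, 6, 8, 10, 7, 5, 7, 5, 3, 7, 5, 7, 5, 3, 7, 5, 7, 5, 3, 7, 5, 7, 5, 3, 7, 5, 7, 5, 3, 9, 7, 5, 3, 1, 7, 5, 3, 7, 9, 7, 5, 7, 11] :: W262)) 995 M12 := (Reach.grow hU (Reach.base _ 995) gr420)
theorem reach423 : Reach (U.lsub ([6, 4, 12, 8, 10, 8, 4, 6, 8, 2, 4, 6, 8, 10, 7, 5, 7, 5, 3, 7, 5, 7, 5, 3, 7, 5, 7, 5, 3, 7, 5, 7, 5, 3, 7, 5, 7, 5, 3, 9, 7, 5, 3, 1, 7, 5, 3, 7, 9, 7, 11, 3, 5] :: W262)) 995 M12 := (Reach.grow hU (Reach.base _ 995) gr422)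
theorem reach425 : Reach (U.lsub ([6, 4, 12, 6, 8, 10, 4, 6, 8, 2, 4, 6, 8, 10, 7, 5, 7, 5, 3, 7, 5, 7, 5, 3, 7, 5, 7, 5, 3, 7, 5, 7, 5, 3, 7, 5, 7, 5, 3, 9, 7, 5, 3, 1, 7, 5, 3, 9, 7, 5, 11, 3, 5] :: W262)) 995 M12 := (Reach.grow hU (Reach.base _ 995) gr424)
theorem reach427 : Reach (U.lsub ([10, 8, 6, 4, 12, 10, 4, 6, 8, 2, 4, 6, 8, 10, 7, 5, 7, 5, 3, 7, 5, 7, 5, 3, 7, 5, 7, 5, 3, 7, 5, 7, 5, 3, 7, 5, 7, 5, 3, 9, 7, 5, 3, 1, 7, 5, 3, 9, 11, 3, 5, 7, 9] :: W262)) 995 M12 := (Reach.grow hU (Reach.base _ 995) gr426)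
theorem reach429 : Reach (U.lsub ([8, 6, 4, 12, 8, 10, 8, 6, 8, 2, 4, 6, 8, 10, 7, 5, 7, 5, 3, 7, 5, 7, 5, 3, 7, 5, 7, 5, 3, 7, 5, 7, 5, 3, 7, 5, 7, 5, 3, 9, 7, 5, 3, 1, 7, 5, 7, 9, 7, 11, 3, 5, 7] :: W262)) 995 M12 := (Reach.grow hU (Reach.base _ 995) gr428)
theorem reach431 : Reach (U.lsub ([6, 8, 6, 4, 12, 10, 8, 6, 8, 2, 4, 6, 8, 10, 7, 5, 7, 5, 3, 7, 5, 7, 5, 3, 7, 5, 7, 5, 3, 7, 5, 7, 5, 3, 7, 5, 7, 5, 3, 9, 7, 5, 3, 1, 7, 5, 7, 9, 11, 3, 5, 7, 5] :: W262)) 995 M12 := (Reach.grow hU (Reach.base _ 995) gr430)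
theorem reach433 : Reach (U.lsub ([12, 4, 6, 8, 6, 4, 12, 10, 8, 2, 4, 6, 8, 10, 7, 5, 7, 5, 3, 7, 5, 7, 5, 3, 7, 5, 7, 5, 3, 7, 5, 7, 5, 3, 7, 5, 7, 5, 3, 9, 7, 5, 3, 1, 7, 9, 11, 3, 5, 7, 5, 3, 11] :: W262)) 995 M12 := (Reach.grow hU (Reach.base _ 995) gr432)
theorem reach435 : Reach (U.lsub ([12, 2, 4, 6, 8, 10, 6, 8, 2, 4, 2, 4, 6, 8, 10, 7, 5, 7, 5, 3, 7, 5, 7, 5, 3, 7, 5, 7, 5, 3, 7, 5, 7, 5, 3, 7, 5, 7, 5, 3, 9, 7, 5, 3, 1, 3, 1, 7, 5, 9, 7, 5, 3, 1, 11] :: W262)) 995 M12 := (Reach.grow hU (Reach.base _ 995) gr434)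
theorem reach437 : Reach (U.lsub ([8, 6, 4, 12, 8, 10, 4, 6, 8, 4, 2, 4, 6, 8, 10, 7, 5, 7, 5, 3, 7, 5, 7, 5, 3, 7, 5, 7, 5, 3, 7, 5, 7, 5, 3, 7, 5, 7, 5, 3, 9, 7, 5, 3, 1, 3, 7, 5, 3, 9, 7, 11, 3, 5, 7] :: W262)) 995 M12 := (Reach.grow hU (Reach.base _ 995) gr436)
theorem reach439 : Reach (U.lsub ([8, 6, 4, 12, 6, 8, 10, 6, 8, 4, 2, 4, 6, 8, 10, 7, 5, 7, 5, 3, 7, 5, 7, 5, 3, 7, 5, 7, 5, 3, 7, 5, 7, 5, 3, 7, 5, 7, 5, 3, 9, 7, 5, 3, 1, 3, 7, 5, 9, 7, 5, 11, 3, 5, 7] :: W262)) 995 M12 := (Reach.grow hU (Reach.base _ 995) gr438)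
theorem reach441 : Reach (U.lsub ([8, 10, 6, 8, 6, 4, 12, 10, 8, 4, 2, 4, 6, 8, 10, 7, 5, 7, 5, 3, 7, 5, 7, 5, 3, 7, 5, 7, 5, 3, 7, 5, 7, 5, 3, 7, 5, 7, 5, 3, 9, 7, 5, 3, 1, 3, 7, 9, 11, 3, 5, 7, 5, 9, 7] :: W262)) 995 M12 := (Reach.grow hU (Reach.base _ 995) gr440)
theorem reach443 : Reach (U.lsub ([12, 8, 6, 8, 10, 8, 2, 4, 6, 8, 2, 4, 6, 8, 10, 7, 5, 7, 5, 3, 7, 5, 7, 5, 3, 7, 5, 7, 5, 3, 7, 5, 7, 5, 3, 7, 5, 7, 5, 3, 9, 7, 5, 3, 1, 7, 5, 3, 1, 7, 9, 7, 5, 7, 11] :: W262)) 995 M12 := (Reach.grow hU (Reach.base _ 995) gr442)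
theorem reach445 : Reach (U.lsub ([10, 8, 6, 4, 12, 8, 10, 8, 6, 8, 2, 4, 6, 8, 10, 7, 5, 7, 5, 3, 7, 5, 7, 5, 3, 7, 5, 7, 5, 3, 7, 5, 7, 5, 3, 7, 5, 7, 5, 3, 9, 7, 5, 3, 1, 7, 5, 7, 9, 7, 11, 3, 5, 7, 9] :: W262)) 995 M12 := (Reach.grow hU (Reach.base _ 995) gr444)
theorem reach447 : Reach (U.lsub ([6, 8, 10, 6, 8, 6, 4, 12, 10, 8, 2, 4, 6, 8, 10, 7, 5, 7, 5, 3, 7, 5, 7, 5, 3, 7, 5, 7, 5, 3, 7, 5, 7, 5, 3, 7, 5, 7, 5, 3, 9, 7, 5, 3, 1, 7, 9, 11, 3, 5, 7, 5, 9, 7, 5] :: W262)) 995 M12 := (Reach.grow hU (Reach.base _ 995) gr446)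
theorem reach449 : Reach (U.lsub ([10, 8, 6, 4, 12, 8, 10, 4, 6, 8, 4, 2, 4, 6, 8, 10, 7, 5, 7, 5, 3, 7, 5, 7, 5, 3, 7, 5, 7, 5, 3, 7, 5, 7, 5, 3, 7, 5, 7, 5, 3, 9, 7, 5, 3, 1, 3, 7, 5, 3, 9, 7, 11, 3, 5, 7, 9] :: W262)) 995 M12 := (Reach.grow hU (Reach.base _ 995) gr448)
theorem cases : AllP Case G2080.X.WL :=
  show AllP _ [[], [6, 8], [4, 6, 8], [6, 4, 6, 8], [10, 2, 4, 6, 8], [8, 6, 4, 6, 8], [4, 6, 2, 4, 6, 8], [10, 6, 2, 4, 6, 8], [10, 2, 0, 2, 4, 6, 8], [8, 4, 6, 2, 4, 6, 8], [10, 4, 6, 2, 4, 6, 8], [10, 8, 6, 2, 4, 6, 8], [10, 6, 2, 0, 2, 4, 6, 8], [10, 6, 4, 6, 2, 4, 6, 8], [10, 8, 4, 6, 2, 4, 6, 8], [10, 2, 4, 6, 0, 2, 4, 6, 8], [4, 2, 10, 6, 0, 2, 4, 6, 8], [4, 6, 8, 4, 6, 2, 4, 6, 8], [10, 6, 4, 6, 2, 0, 2, 4, 6, 8], [6, 8, 4, 6, 2, 0, 2, 4, 6, 8], [4, 2, 10, 6, 2, 0, 2, 4, 6, 8], [4, 6, 8, 4, 6, 0, 2, 4,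 6, 8], [4, 2, 10, 8, 6, 0, 2, 4, 6, 8], [6, 4, 2, 10, 6, 0, 2, 4, 6, 8], [10, 4, 6, 8, 4, 6, 2, 4, 6, 8], [4, 6, 8, 4, 6, 2, 0, 2, 4, 6, 8], [10, 6, 8, 4, 6, 2, 0, 2, 4, 6, 8], [6, 4, 2, 10, 6, 2, 0, 2, 4, 6, 8], [4, 6, 8, 2, 4, 6, 0, 2, 4, 6, 8], [4, 2, 10, 2, 4, 6, 0, 2, 4, 6, 8], [10, 4, 6, 8, 4, 6, 0, 2, 4, 6, 8], [6, 4, 2, 10, 8, 6, 0, 2, 4, 6, 8], [6, 4, 6, 8, 6, 4, 6, 2, 4, 6, 8], [10, 4, 6, 8, 6, 4, 6, 2, 4, 6, 8], [10, 2, 4, 6, 8, 4, 6, 2, 4, 6, 8], [4, 2, 10, 6, 8, 4, 6, 2, 4, 6, 8], [10, 6, 8, 2, 4, 6, 2, 0, 2, 4, 6, 8], [10, 4, 6, 8, 4, 6, 2, 0, 2, 4, 6, 8], [6, 4, 2, 10, 8, 6, 2, 0, 2, 4, 6, 8], [6, 4, 6, 8, 2, 4, 6, 0, 2, 4, 6, 8], [10, 4, 6, 8, 2, 4, 6, 0, 2, 4, 6, 8], [6, 4, 6, 8, 6, 4, 6, 0, 2, 4, 6, 8], [10, 4, 6, 8, 6, 4, 6, 0, 2, 4, 6, 8], [10, 2, 4, 6, 8, 4, 6, 0, 2, 4, 6, 8], [4, 2, 10, 6, 8, 4,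 6, 0, 2, 4, 6, 8], [4, 6, 4, 2, 10, 8, 6, 0, 2, 4, 6, 8], [8, 6, 4, 2, 10, 8, 6, 0, 2, 4, 6, 8], [10, 2, 4, 6, 8, 6, 4, 6, 2, 4, 6, 8], [10, 6, 4, 6, 8, 6, 4, 6, 2, 4, 6, 8], [10, 0, 2, 4, 6, 8, 4, 6, 2, 4, 6, 8], [10, 4, 6, 8, 4, 6, 0, 2, 0, 2, 4, 6, 8], [10, 4, 6, 8, 2, 4, 6, 2, 0, 2, 4, 6, 8], [10, 4, 6, 8, 6, 4, 6, 2, 0, 2, 4, 6, 8], [4, 2, 10, 6, 8, 4, 6, 2, 0, 2, 4, 6, 8], [4, 6, 4, 2, 10, 8, 6, 2, 0, 2, 4, 6, 8], [6, 4, 6, 8, 0, 2, 4, 6, 0, 2, 4, 6, 8], [10, 4, 6, 8, 0, 2, 4, 6, 0, 2, 4, 6, 8], [10, 6, 4, 6, 8, 2, 4, 6, 0, 2, 4, 6, 8], [4, 2, 10, 6, 8, 2, 4, 6, 0, 2, 4, 6, 8], [6, 4, 2, 10, 8, 2, 4, 6, 0, 2, 4, 6, 8], [10, 2, 4, 6, 8, 6, 4, 6, 0, 2, 4, 6, 8], [10, 6, 4, 6, 8, 6, 4, 6, 0, 2, 4, 6, 8], [4, 2, 10, 6, 8, 6, 4, 6, 0, 2, 4, 6, 8], [6, 4, 2, 10, 6, 8, 4, 6, 0, 2, 4, 6, 8], [4, 6, 4, 0, 2, 10, 8, 6,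 0, 2, 4, 6, 8], [8, 4, 6, 4, 2, 10, 8, 6, 0, 2, 4, 6, 8], [4, 6, 8, 4, 6, 4, 2, 10, 0, 2, 4, 6, 8], [10, 4, 6, 8, 6, 4, 6, 0, 2, 0, 2, 4, 6, 8], [10, 2, 4, 6, 8, 4, 6, 0, 2, 0, 2, 4, 6, 8], [4, 2, 10, 6, 8, 2, 4, 6, 2, 0, 2, 4, 6, 8], [4, 2, 10, 4, 6, 8, 4, 6, 2, 0, 2, 4, 6, 8], [6, 4, 2, 10, 6, 8, 4, 6, 2, 0, 2, 4, 6, 8], [4, 6, 4, 2, 10, 8, 4, 6, 2, 0, 2, 4, 6, 8], [10, 6, 4, 6, 8, 6, 2, 4, 6, 0, 2, 4, 6, 8], [4, 2, 10, 6, 8, 6, 2, 4, 6, 0, 2, 4, 6, 8], [4, 2, 10, 4, 6, 8, 2, 4, 6, 0, 2, 4, 6, 8], [8, 6, 4, 2, 10, 8, 2, 4, 6, 0, 2, 4, 6, 8], [6, 4, 2, 10, 6, 8, 6, 4, 6, 0, 2, 4, 6, 8], [4, 6, 4, 2, 10, 8, 6, 4, 6, 0, 2, 4, 6, 8], [10, 2, 4, 6, 4, 2, 10, 8, 6, 0, 2, 4, 6, 8], [10, 0, 2, 4, 6, 8, 4, 6, 0, 2, 0, 2, 4, 6, 8], [6, 4, 2, 10, 6, 8, 2, 4, 6, 2, 0, 2, 4, 6, 8], [6, 4, 2, 10, 4, 6, 8, 4, 6, 2, 0, 2, 4, 6, 8],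 [6, 8, 4, 6, 4, 2, 10, 8, 6, 2, 0, 2, 4, 6, 8], [10, 6, 4, 6, 8, 6, 0, 2, 4, 6, 0, 2, 4, 6, 8], [8, 6, 4, 2, 10, 6, 8, 6, 4, 6, 0, 2, 4, 6, 8], [4, 6, 8, 4, 6, 4, 2, 10, 8, 6, 0, 2, 4, 6, 8], [8, 6, 4, 2, 10, 6, 8, 2, 4, 6, 2, 0, 2, 4, 6, 8]] from AllP.cons ⟨_, by decide +kernel, Or.inr ⟨hU.fixes fx274, _, _, sh275, by decide⟩⟩ (AllP.cons ⟨_, by decide +kernel, Or.inr ⟨hU.fixes fx276, _, _, sh277, by decide⟩⟩ (AllP.cons ⟨_, by decide +kernel, Or.inr ⟨hU.fixes fx278, _, _, sh279, by decide⟩⟩ (AllP.cons ⟨_, by decide +kernel, Or.inr ⟨hU.fixes fx280, _, _, sh281, by decide⟩⟩ (AllP.cons ⟨_, by decide +kernel, Or.inl reach283⟩ (AllP.cons ⟨_, by decide +kernel, Or.inr ⟨hU.fixes fx284, _, _, sh285, by decide⟩⟩ (AllP.cons ⟨_, by decide +kernel, Or.inr ⟨hU.fixes fx286, _, _, sh287, by decide⟩⟩ (AllP.cons ⟨_, by decide +kernel,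 Or.inl reach289⟩ (AllP.cons ⟨_, by decide +kernel, Or.inl reach291⟩ (AllP.cons ⟨_, by decide +kernel, Or.inr ⟨hU.fixes fx292, _, _, sh293, by decide⟩⟩ (AllP.cons ⟨_, by decide +kernel, Or.inl reach295⟩ (AllP.cons ⟨_, by decide +kernel, Or.inl reach297⟩ (AllP.cons ⟨_, by decide +kernel, Or.inl reach299⟩ (AllP.cons ⟨_, by decide +kernel, Or.inl reach301⟩ (AllP.cons ⟨_, by decide +kernel, Or.inl reach303⟩ (AllP.cons ⟨_, by decide +kernel, Or.inl reach305⟩ (AllP.cons ⟨_, by decide +kernel, Or.inl reach307⟩ (AllP.cons ⟨_, by decide +kernel, Or.inr ⟨hU.fixes fx308, _, _, sh309, by decide⟩⟩ (AllP.cons ⟨_, by decide +kernel, Or.inl reach311⟩ (AllP.cons ⟨_, by decide +kernel, Or.inr ⟨hU.fixes fx312, _, _, sh313, by decide⟩⟩ (AllP.cons ⟨_, by decide +kernel, Or.inl reach315⟩ (AllP.cons ⟨_, by decide +kernel, Or.inr ⟨hU.fixes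 fx316, _, _, sh317, by decide⟩⟩ (AllP.cons ⟨_, by decide +kernel, Or.inl reach319⟩ (AllP.cons ⟨_, by decide +kernel, Or.inl reach321⟩ (AllP.cons ⟨_, by decide +kernel, Or.inl reach323⟩ (AllP.cons ⟨_, by decide +kernel, Or.inr ⟨hU.fixes fx324, _, _, sh325, by decide⟩⟩ (AllP.cons ⟨_, by decide +kernel, Or.inl reach327⟩ (AllP.cons ⟨_, by decide +kernel, Or.inl reach329⟩ (AllP.cons ⟨_, by decide +kernel, Or.inr ⟨hU.fixes fx330, _, _, sh331, by decide⟩⟩ (AllP.cons ⟨_, by decide +kernel, Or.inl reach333⟩ (AllP.cons ⟨_, by decide +kernel, Or.inl reach335⟩ (AllP.cons ⟨_, by decide +kernel, Or.inl reach337⟩ (AllP.cons ⟨_, by decide +kernel, Or.inr ⟨hU.fixes fx338, _, _, sh339, by decide⟩⟩ (AllP.cons ⟨_, by decide +kernel, Or.inl reach341⟩ (AllP.cons ⟨_, by decide +kernel, Or.inl reach343⟩ (AllP.cons ⟨_, by decide +kernel, Or.inl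 reach345⟩ (AllP.cons ⟨_, by decide +kernel, Or.inl reach347⟩ (AllP.cons ⟨_, by decide +kernel, Or.inl reach349⟩ (AllP.cons ⟨_, by decide +kernel, Or.inl reach351⟩ (AllP.cons ⟨_, by decide +kernel, Or.inr ⟨hU.fixes fx352, _, _, sh353, by decide⟩⟩ (AllP.cons ⟨_, by decide +kernel, Or.inl reach355⟩ (AllP.cons ⟨_, by decide +kernel, Or.inr ⟨hU.fixes fx356, _, _, sh357, by decide⟩⟩ (AllP.cons ⟨_, by decide +kernel, Or.inl reach359⟩ (AllP.cons ⟨_, by decide +kernel, Or.inl reach361⟩ (AllP.cons ⟨_, by decide +kernel, Or.inl reach363⟩ (AllP.cons ⟨_, by decide +kernel, Or.inl reach365⟩ (AllP.cons ⟨_, by decide +kernel, Or.inl reach367⟩ (AllP.cons ⟨_, by decide +kernel, Or.inl reach369⟩ (AllP.cons ⟨_, by decide +kernel, Or.inl reach371⟩ (AllP.cons ⟨_, by decide +kernel, Or.inl reach373⟩ (AllP.cons ⟨_, by decide +kernel, Or.inl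 reach375⟩ (AllP.cons ⟨_, by decide +kernel, Or.inl reach377⟩ (AllP.cons ⟨_, by decide +kernel, Or.inl reach379⟩ (AllP.cons ⟨_, by decide +kernel, Or.inl reach381⟩ (AllP.cons ⟨_, by decide +kernel, Or.inl reach383⟩ (AllP.cons ⟨_, by decide +kernel, Or.inr ⟨hU.fixes fx384, _, _, sh385, by decide⟩⟩ (AllP.cons ⟨_, by decide +kernel, Or.inl reach387⟩ (AllP.cons ⟨_, by decide +kernel, Or.inl reach389⟩ (AllP.cons ⟨_, by decide +kernel, Or.inl reach391⟩ (AllP.cons ⟨_, by decide +kernel, Or.inl reach393⟩ (AllP.cons ⟨_, by decide +kernel, Or.inl reach395⟩ (AllP.cons ⟨_, by decide +kernel, Or.inl reach397⟩ (AllP.cons ⟨_, by decide +kernel, Or.inl reach399⟩ (AllP.cons ⟨_, by decide +kernel, Or.inl reach401⟩ (AllP.cons ⟨_, by decide +kernel, Or.inl reach403⟩ (AllP.cons ⟨_, by decide +kernel, Or.inl reach405⟩ (AllP.cons ⟨_, by decide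 +kernel, Or.inl reach407⟩ (AllP.cons ⟨_, by decide +kernel, Or.inl reach409⟩ (AllP.cons ⟨_, by decide +kernel, Or.inl reach411⟩ (AllP.cons ⟨_, by decide +kernel, Or.inl reach413⟩ (AllP.cons ⟨_, by decide +kernel, Or.inl reach415⟩ (AllP.cons ⟨_, by decide +kernel, Or.inl reach417⟩ (AllP.cons ⟨_, by decide +kernel, Or.inl reach419⟩ (AllP.cons ⟨_, by decide +kernel, Or.inl reach421⟩ (AllP.cons ⟨_, by decide +kernel, Or.inl reach423⟩ (AllP.cons ⟨_, by decide +kernel, Or.inl reach425⟩ (AllP.cons ⟨_, by decide +kernel, Or.inl reach427⟩ (AllP.cons ⟨_, by decide +kernel, Or.inl reach429⟩ (AllP.cons ⟨_, by decide +kernel, Or.inl reach431⟩ (AllP.cons ⟨_, by decide +kernel, Or.inl reach433⟩ (AllP.cons ⟨_, by decide +kernel, Or.inl reach435⟩ (AllP.cons ⟨_, by decide +kernel, Or.inl reach437⟩ (AllP.cons ⟨_, by decide +kernel, Or.inl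 reach439⟩ (AllP.cons ⟨_, by decide +kernel, Or.inl reach441⟩ (AllP.cons ⟨_, by decide +kernel, Or.inl reach443⟩ (AllP.cons ⟨_, by decide +kernel, Or.inl reach445⟩ (AllP.cons ⟨_, by decide +kernel, Or.inl reach447⟩ (AllP.cons ⟨_, by decide +kernel, Or.inl reach449⟩ (AllP.nil))))))))))))))))))))))))))))))))))))))))))))))))))))))))))))))))))))))))))))))))))))))))
theorem C1 (K : Subgroup (Equiv.Perm ℕ)) (hK : K ≤ (U.lsub W2)) (hc : 416 * Nat.card K = Nat.card (U.lsub W2)) :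
    ∃ p ∈ orbS (U.lsub W2) 995, ∀ g ∈ K, g p = p := by
  obtain ⟨h, hh, hQ⟩ := exists_cj (by norm_num) pQ leQ hK hc.symm (by norm_num)
  refine fix_of_cj hh ⟨_, self_mem_orbS _ _, ?_⟩
  replace hK := cj_le hK hh
  rw [← card_cj h] at hc
  generalize cj h K = K at hK hc hQ
  have : Finite K := Finite.of_injective _ (Subgroup.inclusion_injective hK)
  have h0 : ∀ w, Case w → U.lsub (ZW.map (cjw w)) ≤ K → ∃ z, [z] = ZW.map (cjw w) ∧ (∀ g ∈ U.lsub [z], g 995 = 995) ∧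
      ∃ l s, sizeOk 11 (U.shrink W262 l (U.fixM 11 z M12)) s = true ∧ s < 7 := by
    rintro w ⟨z, e, h1⟩ h2
    rw [← beq_iff_eq.mp e] at h2
    refine ⟨z, beq_iff_eq.mp e, h1.resolve_left fun h1 => ?_⟩
    have h3 := dvd_of_reach hK (Tab.lsub_app h2 hQ) h1 orb17e
    rw [orb17, show Nat.card K = 604800 by have := cardH; omega] at h3
    omega
  obtain ⟨w, hw, h1, h2⟩ := fix_by_conj (P := Case) hK hQ (hU.fixes fx450)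
    (fun u hu => (conjZ u hu).imp fun s h => ⟨h.1, h.2.imp fun w h => ⟨cases.forall w h.1, h.2⟩⟩)
    (fun w hw h1 => (h0 w hw h1).elim fun z h => h.1 ▸ h.2.1)
    (exists_cj (by norm_num) pZ leZ hK hc.symm (by norm_num))
  obtain ⟨z, e, -, l, s, h3, h4⟩ := h0 w hw h1
  have h5 : ∀ q ∈ orbS K 995, Nat.testBit M12 q = true := fun q hq => orb17e.le (orbS_mono hK _ hq)
  have h6 := ncard_le_of_bits (hU.tb_shrink (orbS_inv hQ 995) l fun q hq =>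
    hU.tb_fixM (h5 q hq) (h2 _ (e ▸ U.mem_lsub List.mem_cons_self) q hq)) h3
  have h7 := small_le hK (by norm_num) p7 (exists_cj (by norm_num) p7 le7 hK hc.symm (by norm_num))
    (self_mem_orbS _ _) (h6.trans_lt h4)
    (fun q hq h => hU.tb_fixM (orb17e.le hq) (h _ (U.mem_lsub List.mem_cons_self))) fix7
  exact fix_of_bits (fun q hq => hU.tb_fixM (h5 q hq) (fix_small hQ (by norm_num) pQ
    (h7.trans_lt (by norm_num)) _ (U.mem_lsub List.mem_cons_self) q hq)) fix5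
theorem presUsq : ∀ j < 4, j < 4 → U.fP [5, 7, 19, 21] j * U.fP [5, 7, 19, 21] j = 1 :=
  Tab.sq (show AllP (fun z => evA U.τ [z, z] = 1) [5, 7, 19, 21] from AllP.cons (hU.one rel237) (AllP.cons (hU.one rel238) (AllP.cons (hU.one rel454) (AllP.cons (hU.one rel455) (AllP.nil))))) 4 rfl
theorem presUiv : IvOk (2 * 4) (atm 4 (U.fP [5, 7, 19, 21])) := ivOk_atm presUsq
theorem presUpz5 : PZ U (atm 4 (U.fP [5, 7, 19, 21])) presUEX 5 := PZ.of_atom (y := 2 * 0) (by decide +kernel) (atm_two_mul _ (by decide))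
theorem presUpz7 : PZ U (atm 4 (U.fP [5, 7, 19, 21])) presUEX 7 := PZ.of_atom (y := 2 * 1) (by decide +kernel) (atm_two_mul _ (by decide))
theorem presUpz19 : PZ U (atm 4 (U.fP [5, 7, 19, 21])) presUEX 19 := PZ.of_atom (y := 2 * 2) (by decide +kernel) (atm_two_mul _ (by decide))
theorem presUpz21 : PZ U (atm 4 (U.fP [5, 7, 19, 21])) presUEX 21 := PZ.of_atom (y := 2 * 3) (by decide +kernel) (atm_two_mul _ (by decide))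
theorem presUpz23 : PZ U (atm 4 (U.fP [5, 7, 19, 21])) presUEX 23 := PZ.of_def presUiv (d := [21, 7, 21, 19, 7]) (AllP.cons presUpz21 (AllP.cons presUpz7 (AllP.cons presUpz21 (AllP.cons presUpz19 (AllP.cons presUpz7 (AllP.nil)))))) (hU.one rel456) (by decide +kernel)
theorem presUpz24 : PZ U (atm 4 (U.fP [5, 7, 19, 21])) presUEX 24 := PZ.of_inv presUiv presUpz23 (by decide +kernel)
theorem presUpz25 : PZ U (atm 4 (U.fP [5, 7, 19, 21])) presUEX 25 := PZ.of_def presUiv (d := [21, 19, 7, 21, 7]) (AllP.cons presUpz21 (AllP.cons presUpz19 (AllP.cons presUpz7 (AllP.cons presUpz21 (AllP.cons presUpz7 (AllP.nil)))))) (hU.one rel457) (by decide +kernel)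
theorem presUpz26 : PZ U (atm 4 (U.fP [5, 7, 19, 21])) presUEX 26 := PZ.of_inv presUiv presUpz25 (by decide +kernel)
theorem presUpz27 : PZ U (atm 4 (U.fP [5, 7, 19, 21])) presUEX 27 := PZ.of_def presUiv (d := [7, 5, 21, 5, 21, 7]) (AllP.cons presUpz7 (AllP.cons presUpz5 (AllP.cons presUpz21 (AllP.cons presUpz5 (AllP.cons presUpz21 (AllP.cons presUpz7 (AllP.nil))))))) (hU.one rel458) (by decide +kernel)
theorem presUpz28 : PZ U (atm 4 (U.fP [5, 7, 19, 21])) presUEX 28 := PZ.of_inv presUiv presUpz27 (by decide +kernel)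
theorem presUpz29 : PZ U (atm 4 (U.fP [5, 7, 19, 21])) presUEX 29 := PZ.of_def presUiv (d := [7, 5, 7, 21, 5, 21]) (AllP.cons presUpz7 (AllP.cons presUpz5 (AllP.cons presUpz7 (AllP.cons presUpz21 (AllP.cons presUpz5 (AllP.cons presUpz21 (AllP.nil))))))) (hU.one rel459) (by decide +kernel)
theorem presUpz30 : PZ U (atm 4 (U.fP [5, 7, 19, 21])) presUEX 30 := PZ.of_inv presUiv presUpz29 (by decide +kernel)
theorem presUPZ : AllP (PZ U (atm 4 (U.fP [5, 7, 19, 21])) presUEX) [5, 7, 19, 21, 23, 24, 25, 26, 27, 28, 29, 30] :=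
  AllP.cons presUpz5 (AllP.cons presUpz7 (AllP.cons presUpz19 (AllP.cons presUpz21 (AllP.cons presUpz23 (AllP.cons presUpz24 (AllP.cons presUpz25 (AllP.cons presUpz26 (AllP.cons presUpz27 (AllP.cons presUpz28 (AllP.cons presUpz29 (AllP.cons presUpz30 (AllP.nil))))))))))))
theorem presU : Pres 4 4 SzUa.RL (U.fP [5, 7, 19, 21]) :=
  ⟨presUsq, relAll_sound presUiv (W := [[25, 27, 26, 28], [27, 29, 27, 30], [27, 27, 29, 29], [25, 29, 25, 29], [23, 23, 25, 25], [23, 25, 23, 26], [23, 27, 23, 27], [23, 29, 23, 29], [19, 23, 19, 24], [19, 27, 19, 28], [19, 25, 19, 26], [19, 29, 19, 30], [5, 23, 5, 24], [5, 27, 5, 28], [5, 19, 5, 19], [5, 25, 5, 26], [5, 29, 5, 30], [7, 21, 19, 7, 21, 25, 24, 19]]) (rules := [⟨[25, 27, 26, 28], [], 0, true⟩, ⟨[27, 29, 27, 30], [], 1, true⟩, ⟨[27, 27, 29, 29], [], 2, true⟩, ⟨[25, 29, 25, 29],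 [], 3, true⟩, ⟨[23, 23, 25, 25], [], 4, true⟩, ⟨[23, 25, 23, 26], [], 5, true⟩, ⟨[23, 27, 23, 27], [], 6, true⟩, ⟨[23, 29, 23, 29], [], 7, true⟩, ⟨[19, 23, 19, 24], [], 8, true⟩, ⟨[19, 27, 19, 28], [], 9, true⟩, ⟨[19, 25, 19, 26], [], 10, true⟩, ⟨[19, 29, 19, 30], [], 11, true⟩, ⟨[5, 23, 5, 24], [], 12, true⟩, ⟨[5, 27, 5, 28], [], 13, true⟩, ⟨[5, 19, 5, 19], [], 14, true⟩, ⟨[5, 25, 5, 26], [], 15, true⟩, ⟨[5, 29, 5, 30], [], 16, true⟩, ⟨[7, 21, 19, 7, 21, 25, 24, 19], [], 17, true⟩]) presUPZ (AllP.cons (hU.one rel460) (AllP.cons (hU.one rel461) (AllP.cons (hU.one rel462) (AllP.cons (hU.one rel463) (AllP.cons (hU.one rel464) (AllP.cons (hU.one rel465) (AllP.cons (hU.one rel466) (AllP.cons (hU.one rel467) (AllP.cons (hU.one rel468) (AllP.cons (hU.one rel469) (AllP.cons (hU.one rel470) (AllP.cons (hU.one rel471) (AllP.cons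 (hU.one rel472) (AllP.cons (hU.one rel473) (AllP.cons (hU.one rel474) (AllP.cons (hU.one rel475) (AllP.cons (hU.one rel476) (AllP.cons (hU.one rel477) (AllP.nil))))))))))))))))))) (by decide +kernel)⟩
theorem pU : IsPGroup 2 (U.lsub W453) := lsub_eq_gsub U [5, 7, 19, 21] ▸ isPGroup_of_dvd (e := 12) Nat.prime_two
  ((show Bound 4 4 SzUa.RL (16 * (256)) from (SzUa.cert.bound' SzUb.cert.bound_nil (H := [([], 0, true), ([], 1, true), ([], 2, true), ([], 3, true), ([], 4, true), ([], 5, true), ([], 6, true), ([], 7, true), ([], 8, true), ([], 9, true), ([], 10, true), ([], 11, true), ([], 12, true), ([], 13, true), ([], 14, true), ([], 15, true), ([], 16, true), ([], 17, true)]) (H' := [([], 18, false), ([], 18, false), ([], 0, true), ([], 1, true), ([], 2, true), ([], 3, true), ([], 4, true), ([], 5, true), ([], 6, true),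 ([], 7, true), ([], 8, true), ([], 9, true), ([], 10, true), ([], 11, true), ([], 12, true), ([], 13, true), ([], 14, true), ([], 15, true), ([], 16, true)]) (by decide +kernel) (by decide +kernel))) _ _ presU)
theorem leU : U.lsub W453 ≤ (U.lsub W2) := Tab.lsub_le_all (show AllP _ [[5], [7], [19], [21]] from AllP.cons (U.mem_letters (by decide)) (AllP.cons (U.mem_letters (by decide)) (AllP.cons (mem_of_rel (hU.one rel451) (Tab.evA_mem_gz hH (by decide +kernel))) (AllP.cons (mem_of_rel (hU.one rel452) (Tab.evA_mem_gz hH (by decide +kernel))) (AllP.nil)))))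
theorem reach478 : Reach (U.lsub W25) 995 (Nat.shiftLeft 1 995) := (Reach.base _ 995)
theorem reach482 : Reach (U.lsub W25) 47 M480 := (Reach.grow hU (Reach.base _ 47) gr481)
theorem reach486 : Reach (U.lsub W25) 81 M484 := (Reach.grow hU (Reach.base _ 81) gr485)
noncomputable def Xd : List Cell := [(995, (Nat.shiftLeft 1 995), 1), (47, M480, 100), (81, M484, 315)]
theorem Xdk : AllP (CellOk (U.lsub W25) 11) Xd :=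
  show AllP _ [(995, (Nat.shiftLeft 1 995), 1), (47, M480, 100), (81, M484, 315)] from AllP.cons ⟨reach478, sz479⟩ (AllP.cons ⟨reach482, sz483⟩ (AllP.cons ⟨reach486, sz487⟩ (AllP.nil)))
theorem Xdp : partOk M12 Xd 0 = true := by decide +kernel
theorem reach490 : Reach (U.lsub W453) 130 M488 := (Reach.grow hU (Reach.base _ 130) gr489)
theorem reach494 : Reach (U.lsub W453) 202 M492 := (Reach.grow hU (Reach.base _ 202) gr493)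
theorem reach498 : Reach (U.lsub W453) 228 M496 := (Reach.grow hU (Reach.base _ 228) gr497)
theorem reach502 : Reach (U.lsub W453) 115 M500 := (Reach.grow hU (Reach.base _ 115) gr501)
theorem reach506 : Reach (U.lsub W453) 47 M504 := (Reach.grow hU (Reach.base _ 47) gr505)
noncomputable def Xu : List Cell := [(130, M488, 32), (202, M492, 32), (228, M496, 32), (115, M500, 64), (47, M504, 256)]
theorem Xuk : AllP (CellOk (U.lsub W453) 11) Xu :=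
  show AllP _ [(130, M488, 32), (202, M492, 32), (228, M496, 32), (115, M500, 64), (47, M504, 256)] from AllP.cons ⟨reach490, sz491⟩ (AllP.cons ⟨reach494, sz495⟩ (AllP.cons ⟨reach498, sz499⟩ (AllP.cons ⟨reach502, sz503⟩ (AllP.cons ⟨reach506, sz507⟩ (AllP.nil)))))
theorem Xup : partOk M12 Xu 0 = true := by decide +kernel
set_option synthInstance.maxSize 100000 in
theorem key2 : ∀ x0 x1 x2 x3 x4 : Fin 2, 96 = 32 * x0.1 + (32 * x1.1 + (32 * x2.1 + (64 * x3.1 + (256 * x4.1 + (0))))) →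
    (x0.1 = 0 ∧ x1.1 = 0 ∧ x2.1 = 1 ∧ x3.1 = 1 ∧ x4.1 = 0) ∨ (x0.1 = 0 ∧ x1.1 = 1 ∧ x2.1 = 0 ∧ x3.1 = 1 ∧ x4.1 = 0) ∨ (x0.1 = 1 ∧ x1.1 = 0 ∧ x2.1 = 0 ∧ x3.1 = 1 ∧ x4.1 = 0) ∨ (x0.1 = 1 ∧ x1.1 = 1 ∧ x2.1 = 1 ∧ x3.1 = 0 ∧ x4.1 = 0) := by decide +kernel
theorem cnt519 : CntOk r M508 PL511 := WT.cnt_sound hU hG row0 ct518
theorem cnt531 : CntOk r M520 PL523 := WT.cnt_sound hU hG row0 ct530
theorem cnt543 : CntOk r M532 PL535 := WT.cnt_sound hU hG row0 ct542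
theorem cnt554 : CntOk r M544 PL547 := WT.cnt_sound hU hG row0 ct553
theorem C2 (K : Subgroup (Equiv.Perm ℕ)) (hK : K ≤ (U.lsub W2)) (hc : 1365 * Nat.card K = Nat.card (U.lsub W2))
    (ho : ∃ p ∈ orbS (U.lsub W2) 995, 1365 * (orbS K 995).ncard = 416 * (orbS (StL (U.lsub W2) [995]) p).ncard) :
    ∃ p ∈ orbS (U.lsub W2) 1, ∀ g ∈ K, g p = p := by
  have h1 : (orbS K 995).ncard = 96 := by
    obtain ⟨p, hp, ho⟩ := ho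
    have h1 := ncard_cells Xdk Xdp (orbS_inv leb p) fun q hq =>
      orb17e.le (orbS_eq_of_mem hp ▸ orbS_mono (StL_le _ _) _ hq)
    have h2 := dvd_card_orb (A := K) (p := 995) rfl
    rw [show Nat.card K = 184320 by have := cardH; omega] at h2
    have h3 : (orbS K 995).ncard ≠ 0 := fun e => by rw [e] at h2; omega
    simp only [Xd, List.map_cons, List.map_nil, List.sum_cons, List.sum_nil] at h1
    have := ind_le (orbS (StL (U.lsub W2) [995]) p) 995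
    have := ind_le (orbS (StL (U.lsub W2) [995]) p) 47
    have := ind_le (orbS (StL (U.lsub W2) [995]) p) 81
    omega
  obtain ⟨h, hh, hQ⟩ := exists_cj Nat.prime_two pU leU hK hc.symm (by norm_num)
  refine fix_of_cj hh ⟨_, self_mem_orbS _ _, ?_⟩
  rw [← ncard_orbS_cj h] at h1
  replace hK := cj_le hK hh
  have h3 := orbS_inv hQ (h 995)
  have h4 : ∀ q ∈ orbS (cj h K) (h 995), Nat.testBit M12 q = true := fun q hq =>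
    orb17e.le (orbS_eq_of_mem (A := (U.lsub W2)) ⟨h, hh, rfl⟩ ▸ orbS_mono hK _ hq)
  rcases key2 ⟨ind (orbS (cj h K) (h 995)) 130, Nat.lt_succ_of_le (ind_le _ _)⟩ ⟨ind (orbS (cj h K) (h 995)) 202, Nat.lt_succ_of_le (ind_le _ _)⟩ ⟨ind (orbS (cj h K) (h 995)) 228, Nat.lt_succ_of_le (ind_le _ _)⟩ ⟨ind (orbS (cj h K) (h 995)) 115, Nat.lt_succ_of_le (ind_le _ _)⟩ ⟨ind (orbS (cj h K) (h 995)) 47, Nat.lt_succ_of_le (ind_le _ _)⟩ (h1.symm.trans (ncard_cells Xuk Xup h3 h4)) with ⟨x0, x1, x2, x3, x4⟩ | ⟨x0, x1, x2, x3, x4⟩ | ⟨x0, x1, x2, x3, x4⟩ | ⟨x0, x1, x2, x3, x4⟩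
  · have h6 := eq_of_cells Xuk Xup h3 h4 (R := M508) ⟨Or.inr ⟨x0, by decide +kernel⟩, Or.inr ⟨x1, by decide +kernel⟩, Or.inl ⟨x2, by decide +kernel⟩, Or.inl ⟨x3, by decide +kernel⟩, Or.inr ⟨x4, by decide +kernel⟩, trivial⟩ (by decide +kernel)
    have h7 := cnt519.inv (hK.trans hA) (invM_of_orb h6)
    have h8 := h7.forall _ (List.getElem_mem (n := 4) (by decide))
    exact absurd ((h8.orb ((h6 228).mpr (by decide +kernel))).trans (h8.orb ((h6 115).mpr (by decide +kernel))).symm) (by decide +kernel)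
  · have h6 := eq_of_cells Xuk Xup h3 h4 (R := M520) ⟨Or.inr ⟨x0, by decide +kernel⟩, Or.inl ⟨x1, by decide +kernel⟩, Or.inr ⟨x2, by decide +kernel⟩, Or.inl ⟨x3, by decide +kernel⟩, Or.inr ⟨x4, by decide +kernel⟩, trivial⟩ (by decide +kernel)
    have h7 := cnt531.inv (hK.trans hA) (invM_of_orb h6)
    have h8 := h7.forall _ (List.getElem_mem (n := 4) (by decide))
    exact absurd ((h8.orb ((h6 202).mpr (by decide +kernel))).trans (h8.orb ((h6 115).mpr (by decide +kernel))).symm) (by decide +kernel)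
  · have h6 := eq_of_cells Xuk Xup h3 h4 (R := M532) ⟨Or.inl ⟨x0, by decide +kernel⟩, Or.inr ⟨x1, by decide +kernel⟩, Or.inr ⟨x2, by decide +kernel⟩, Or.inl ⟨x3, by decide +kernel⟩, Or.inr ⟨x4, by decide +kernel⟩, trivial⟩ (by decide +kernel)
    have h7 := cnt543.inv (hK.trans hA) (invM_of_orb h6)
    have h8 := h7.forall _ (List.getElem_mem (n := 4) (by decide))
    exact absurd ((h8.orb ((h6 130).mpr (by decide +kernel))).trans (h8.orb ((h6 115).mpr (by decide +kernel))).symm) (by decide +kernel)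
  · have h6 := eq_of_cells Xuk Xup h3 h4 (R := M544) ⟨Or.inl ⟨x0, by decide +kernel⟩, Or.inl ⟨x1, by decide +kernel⟩, Or.inl ⟨x2, by decide +kernel⟩, Or.inr ⟨x3, by decide +kernel⟩, Or.inr ⟨x4, by decide +kernel⟩, trivial⟩ (by decide +kernel)
    have h7 := cnt554.inv (hK.trans hA) (invM_of_orb h6)
    exact InvM.fix (Nat.beq_eq.mp pt555 ▸ invM_patM (invM_ones fun _ h => (hA (hK h)).1)
      (AllP.cons (invM_pt fun _ h => (mem_StL1.mp (st.ge (hK h))).2) h7) _)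

end Cfsg.Agent.Spor.Suz1782.R
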